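import Groth.Agent.H33.BrownGA.QCoprod

/-!
# Maps out of a countable direct sum placed in degree zero of the derived category (helper45)

For a Grothendieck abelian category `A` (any `HasDerivedCategory` instance) and `F : ℕ → A`:
`Hom_{D(A)}((⊕ F)[0], Y) = ∏_i Hom_{D(A)}(F_i[0], Y)`.
-/

set_option autoImplicit false
universe w v u
open CategoryTheory CategoryTheory.Limits DerivedCategory

namespace Groth.Agent.H45.DerCompl

variable {A : Type u} [Category.{v} A] [Abelian A] [IsGrothendieckAbelian.{v} A]
  [HasDerivedCategory.{w} A]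

/-- The single functor `A ⥤ D(A)` preserves coproducts (any `HasDerivedCategory` instance). -/
noncomputable def isColimitSingle' {ι : Type v} (F : ι → A) :
    IsColimit (Cofan.mk ((singleFunctor A 0).obj (∐ F))
      (fun i => (singleFunctor A 0).map (Sigma.ι F i))) := by
  let S : A ⥤ CochainComplex A ℤ := CochainComplex.singleFunctor A 0
  have hS : PreservesColimit (Discrete.functor F) S := by
    change PreservesColimit (Discrete.functor F) (HomologicalComplex.single A (ComplexShape.up ℤ) 0)
    infer_instance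
  let K : ι → CochainComplex A ℤ := fun i => S.obj (F i)
  have h1 : PreservesColimit (Discrete.functor K) (DerivedCategory.Q (C := A)) :=
    preservesColimit_of_preserves_colimit_cocone (coproductIsCoproduct K)
      ((isColimitMapCoconeCofanMkEquiv _ _ _).symm (Groth.Agent.H33.BrownGA.isColimitQ K))
  have h2 : PreservesColimit (Discrete.functor F ⋙ S) (DerivedCategory.Q (C := A)) :=
    preservesColimit_of_iso_diagram _ (Discrete.natIso (fun _ => Iso.refl _) :
      Discrete.functor K ≅ Discrete.functor F ⋙ S)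
  have h3 : PreservesColimit (Discrete.functor F) (S ⋙ DerivedCategory.Q) := inferInstance
  have h4 : PreservesColimit (Discrete.functor F) (singleFunctor A 0) :=
    preservesColimit_of_natIso _ (singleFunctorIsoCompQ A 0).symm
  exact isColimitCofanMkObjOfIsColimit (singleFunctor A 0) _ _ (coproductIsCoproduct F)

/-- **maps out of `(⊕_ℕ F)[0]` are families of maps out of the `F_i[0]`.** -/
theorem bijective_single_sigma (F : ℕ → A) (Y : DerivedCategory A) :
    Function.Bijective (fun (φ : (singleFunctor A 0).obj (∐ F) ⟶ Y) (i : ℕ) =>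
      (singleFunctor A 0).map (Sigma.ι F i) ≫ φ) := by
  let ε : ULift.{v} ℕ ≃ ℕ := Equiv.ulift
  let e : ∐ (F ∘ ε) ≅ ∐ F := Sigma.reindex ε F
  have hc := isColimitSingle' (A := A) (F ∘ ε)
  constructor
  · intro φ₁ φ₂ h
    have h' : ∀ i : ℕ, (singleFunctor A 0).map (Sigma.ι F i) ≫ φ₁ =
        (singleFunctor A 0).map (Sigma.ι F i) ≫ φ₂ := fun i => congrFun h i
    have h1 : (singleFunctor A 0).map e.hom ≫ φ₁ = (singleFunctor A 0).map e.hom ≫ φ₂ := by
      apply hc.hom_ext
      rintro ⟨j⟩
      change (singleFunctor A 0).map (Sigma.ι (F ∘ ε) j) ≫ (singleFunctor A 0).map e.hom ≫ φ₁ =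
        (singleFunctor A 0).map (Sigma.ι (F ∘ ε) j) ≫ (singleFunctor A 0).map e.hom ≫ φ₂
      rw [← Category.assoc, ← Category.assoc, ← Functor.map_comp, Sigma.ι_reindex_hom]
      exact h' (ε j)
    have : IsIso ((singleFunctor A 0).map e.hom) := inferInstance
    exact (cancel_epi _).1 h1
  · intro x
    let s : Cofan (fun j : ULift.{v} ℕ => (singleFunctor A 0).obj ((F ∘ ε) j)) :=
      Cofan.mk Y (fun j => x (ε j))
    refine ⟨(singleFunctor A 0).map e.inv ≫ hc.desc s, ?_⟩
    funext i
    change (singleFunctor A 0).map (Sigma.ι F i) ≫ (singleFunctor A 0).map e.inv ≫ hc.desc s = x i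
    rw [← Category.assoc, ← Functor.map_comp]
    have h1 : Sigma.ι F i ≫ e.inv = Sigma.ι (F ∘ ε) (ε.symm i) :=
      Sigma.ι_reindex_inv ε F (ε.symm i)
    rw [h1]
    exact hc.fac s ⟨ε.symm i⟩

end Groth.Agent.H45.DerCompl
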