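import Mathlib.CategoryTheory.Triangulated.Pretriangulated

/-!
# Vanishing of maps out of the cone vs bijectivity of precomposition (helper45)

For a distinguished triangle `Y₁ ⟶ Y₂ ⟶ Y₃ ⟶ Y₁⟦1⟧` and an object `X`: `Hom(Y₃, X⟦n⟧) = 0` for all `n` iff
precomposition with `Y₁ ⟶ Y₂` is a bijection `Hom(Y₂, X⟦n⟧) → Hom(Y₁, X⟦n⟧)` for all `n`.
-/

set_option autoImplicit false
universe v u
open CategoryTheory CategoryTheory.Limits CategoryTheory.Pretriangulated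

namespace Groth.Agent.H45.DerCompl

variable {C : Type u} [Category.{v} C] [HasZeroObject C] [HasShift C ℤ] [Preadditive C]
  [∀ n : ℤ, (shiftFunctor C n).Additive] [Pretriangulated C]

/-- the isomorphism `X⟦a⟧⟦1⟧ ≅ X⟦b⟧` for `a + 1 = b`. -/
noncomputable def shiftSuccIso (X : C) (a b : ℤ) (h : a + 1 = b) : (X⟦a⟧)⟦(1 : ℤ)⟧ ≅ X⟦b⟧ :=
  ((shiftFunctorAdd' C a 1 b h).symm).app X

theorem subsingleton_iff_bijective (T : Triangle C) (hT : T ∈ distTriang C) (X : C) :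
    (∀ n : ℤ, Subsingleton (T.obj₃ ⟶ X⟦n⟧)) ↔
      ∀ n : ℤ, Function.Bijective (fun φ : T.obj₂ ⟶ X⟦n⟧ => T.mor₁ ≫ φ) := by
  constructor
  · intro hsub n
    constructor
    · intro φ₁ φ₂ h12
      have h12' : T.mor₁ ≫ φ₁ = T.mor₁ ≫ φ₂ := h12
      obtain ⟨g, hg⟩ := Triangle.yoneda_exact₂ T hT (φ₁ - φ₂) (by
        rw [Preadditive.comp_sub, h12', sub_self])
      have hg0 : g = 0 := (hsub n).elim _ _
      rw [hg0, comp_zero] at hg
      exact sub_eq_zero.1 hg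
    · intro ψ
      have h0 : T.mor₃ ≫ ψ⟦(1 : ℤ)⟧' = 0 := by
        have h1 : (T.mor₃ ≫ ψ⟦(1 : ℤ)⟧') ≫ (shiftSuccIso X n (n + 1) rfl).hom = 0 :=
          (hsub (n + 1)).elim _ _
        rw [← cancel_mono (shiftSuccIso X n (n + 1) rfl).hom, h1, zero_comp]
      obtain ⟨g, hg'⟩ : ∃ g : (T.obj₂)⟦(1 : ℤ)⟧ ⟶ (X⟦n⟧)⟦(1 : ℤ)⟧,
          ψ⟦(1 : ℤ)⟧' = (-(T.mor₁⟦(1 : ℤ)⟧')) ≫ g :=
        Triangle.yoneda_exact₃ T.rotate (rot_of_distTriang _ hT) (ψ⟦(1 : ℤ)⟧') h0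
      refine ⟨-(shiftFunctor C (1 : ℤ)).preimage g, ?_⟩
      apply (shiftFunctor C (1 : ℤ)).map_injective
      change (T.mor₁ ≫ (-(shiftFunctor C (1 : ℤ)).preimage g))⟦(1 : ℤ)⟧' = ψ⟦(1 : ℤ)⟧'
      rw [Preadditive.comp_neg, Functor.map_neg, Functor.map_comp, Functor.map_preimage, hg',
        Preadditive.neg_comp]
  · intro hbij n
    have key : ∀ f : T.obj₃ ⟶ X⟦n⟧, f = 0 := by
      intro f
      have h1 : T.mor₂ ≫ f = 0 := by
        apply (hbij n).1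
        change T.mor₁ ≫ T.mor₂ ≫ f = T.mor₁ ≫ 0
        rw [← Category.assoc, comp_distTriang_mor_zero₁₂ T hT, zero_comp, comp_zero]
      obtain ⟨g, hg⟩ := Triangle.yoneda_exact₃ T hT f h1
      let e := shiftSuccIso X (n - 1) n (by omega)
      obtain ⟨φ, hφ⟩ := (hbij (n - 1)).2 ((shiftFunctor C (1 : ℤ)).preimage (g ≫ e.inv))
      have hφ' : T.mor₁ ≫ φ = (shiftFunctor C (1 : ℤ)).preimage (g ≫ e.inv) := hφ
      have h2 : g = T.mor₁⟦(1 : ℤ)⟧' ≫ φ⟦(1 : ℤ)⟧' ≫ e.hom := by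
        rw [← Category.assoc, ← Functor.map_comp, hφ', Functor.map_preimage, Category.assoc,
          Iso.inv_hom_id, Category.comp_id]
      rw [hg, h2, ← Category.assoc, comp_distTriang_mor_zero₃₁ T hT, zero_comp]
    exact ⟨fun a b => (key a).trans (key b).symm⟩

end Groth.Agent.H45.DerCompl
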