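import Groth.Agent.H45.DerCompl.AwayGen
import Groth.Agent.H45.DerCompl.TriangleCrit
import Groth.Agent.H45.DerCompl.SingleCoprod
import Mathlib.Algebra.Homology.DerivedCategory.SingleTriangle

/-!
# Maps out of the telescope `F[μ⁻¹]` in the derived category (helper45)

`A` Grothendieck abelian, `F : A`, `μ : F ⟶ F`, `X : D(A)`.  The cokernel of `awayGen F μ = 1 - μ·shift` on `⊕_ℕ F` is
the colimit of `F →μ F →μ …`.  All maps `coker[0] ⟶ X⟦n⟧` vanish iff for every `n` the map
`(x_i) ↦ (x_i - μ ≫ x_{i+1})` is bijective on `∏_ℕ Hom(F[0], X⟦n⟧)`.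
-/

set_option autoImplicit false
universe w v u
open CategoryTheory CategoryTheory.Limits DerivedCategory

namespace Groth.Agent.H45.DerCompl

variable {A : Type u} [Category.{v} A] [Abelian A] [IsGrothendieckAbelian.{v} A]
  [HasDerivedCategory.{w} A] (F : A) (μ : F ⟶ F)

/-- the short complex `⊕F ⟶ ⊕F ⟶ coker`. -/
noncomputable def awaySC : ShortComplex A :=
  ShortComplex.mk (awayGen F μ) (cokernel.π (awayGen F μ)) (cokernel.condition _)

variable [HasColimitsOfShape (Finset (Discrete ℕ)) A]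
  [HasExactColimitsOfShape (Finset (Discrete ℕ)) A]

lemma awaySC_shortExact : (awaySC F μ).ShortExact := by
  have : Mono (awaySC F μ).f := mono_awayGen F μ
  have : Epi (awaySC F μ).g := by dsimp [awaySC]; infer_instance
  exact ShortComplex.ShortExact.mk (ShortComplex.exact_cokernel (awayGen F μ))

/-- the telescope operator on sequences of maps out of `F[0]`. -/
noncomputable def teleOp (X : DerivedCategory A) (n : ℤ)
    (x : ℕ → ((singleFunctor A 0).obj F ⟶ X⟦n⟧)) : ℕ → ((singleFunctor A 0).obj F ⟶ X⟦n⟧) :=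
  fun i => x i - (singleFunctor A 0).map μ ≫ x (i + 1)

/-- **criterion.** -/
theorem away_criterion (X : DerivedCategory A) :
    (∀ n : ℤ, Subsingleton ((singleFunctor A 0).obj (cokernel (awayGen F μ)) ⟶ X⟦n⟧)) ↔
      ∀ n : ℤ, Function.Bijective (teleOp F μ X n) := by
  have hS := awaySC_shortExact F μ
  have hT := hS.singleTriangle_distinguished
  have h1 := subsingleton_iff_bijective hS.singleTriangle hT X
  have h2 : ∀ n : ℤ, Function.Bijective
      (fun φ : (singleFunctor A 0).obj (∐ fun _ : ℕ => F) ⟶ X⟦n⟧ =>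
        (singleFunctor A 0).map (awayGen F μ) ≫ φ) ↔ Function.Bijective (teleOp F μ X n) := by
    intro n
    have hb := bijective_single_sigma (fun _ : ℕ => F) (X⟦n⟧)
    have hsq : (teleOp F μ X n) ∘ (fun (φ : (singleFunctor A 0).obj (∐ fun _ : ℕ => F) ⟶ X⟦n⟧)
          (i : ℕ) => (singleFunctor A 0).map (Sigma.ι (fun _ : ℕ => F) i) ≫ φ) =
        (fun (φ : (singleFunctor A 0).obj (∐ fun _ : ℕ => F) ⟶ X⟦n⟧)
          (i : ℕ) => (singleFunctor A 0).map (Sigma.ι (fun _ : ℕ => F) i) ≫ φ) ∘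
        (fun φ : (singleFunctor A 0).obj (∐ fun _ : ℕ => F) ⟶ X⟦n⟧ =>
          (singleFunctor A 0).map (awayGen F μ) ≫ φ) := by
      funext φ i
      change (singleFunctor A 0).map (Sigma.ι (fun _ : ℕ => F) i) ≫ φ -
          (singleFunctor A 0).map μ ≫ (singleFunctor A 0).map (Sigma.ι (fun _ : ℕ => F) (i + 1)) ≫ φ =
        (singleFunctor A 0).map (Sigma.ι (fun _ : ℕ => F) i) ≫
          (singleFunctor A 0).map (awayGen F μ) ≫ φ
      rw [← Category.assoc ((singleFunctor A 0).map (Sigma.ι (fun _ : ℕ => F) i)),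
        ← Functor.map_comp, ι_awayGen, Functor.map_sub, Functor.map_comp, Preadditive.sub_comp,
        Category.assoc]
    constructor
    · intro h
      have h3 : Function.Bijective ((teleOp F μ X n) ∘ (fun (φ : (singleFunctor A 0).obj
          (∐ fun _ : ℕ => F) ⟶ X⟦n⟧) (i : ℕ) =>
            (singleFunctor A 0).map (Sigma.ι (fun _ : ℕ => F) i) ≫ φ)) := by
        rw [hsq]
        exact hb.comp h
      exact (Function.Bijective.of_comp_iff (teleOp F μ X n) hb).1 h3
    · intro h
      have h3 : Function.Bijective ((fun (φ : (singleFunctor A 0).obj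
          (∐ fun _ : ℕ => F) ⟶ X⟦n⟧) (i : ℕ) =>
            (singleFunctor A 0).map (Sigma.ι (fun _ : ℕ => F) i) ≫ φ) ∘
          (fun φ : (singleFunctor A 0).obj (∐ fun _ : ℕ => F) ⟶ X⟦n⟧ =>
            (singleFunctor A 0).map (awayGen F μ) ≫ φ)) := by
        rw [← hsq]
        exact h.comp hb
      exact (Function.Bijective.of_comp_iff' hb _).1 h3
  rw [show (∀ n : ℤ, Subsingleton ((singleFunctor A 0).obj (cokernel (awayGen F μ)) ⟶ X⟦n⟧)) ↔
    (∀ n : ℤ, Subsingleton (hS.singleTriangle.obj₃ ⟶ X⟦n⟧)) from Iff.rfl, h1]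
  exact forall_congr' h2

end Groth.Agent.H45.DerCompl
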