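import Groth.Agent.H45.DerCompl.AwayGen
import Mathlib.CategoryTheory.Limits.Preserves.Shapes.Products
import Mathlib.CategoryTheory.Limits.Preserves.Shapes.Kernels
import Mathlib.CategoryTheory.Preadditive.AdditiveFunctor

/-!
# Colimit preserving additive functors commute with the telescope (helper45)

`G (coker (1 - μ·shift on ⊕F)) ≅ coker (1 - Gμ·shift on ⊕ GF)`.
-/

set_option autoImplicit false
universe v v' u u'
open CategoryTheory CategoryTheory.Limits

namespace Groth.Agent.H45.DerCompl

variable {A : Type u} [Category.{v} A] [Abelian A] {B : Type u'} [Category.{v'} B] [Abelian B]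
  (G : A ⥤ B) [G.Additive] (F : A) (μ : F ⟶ F)
  [HasCoproduct (fun _ : ℕ => F)] [HasCoproduct (fun _ : ℕ => G.obj F)]
  [PreservesColimit (Discrete.functor (fun _ : ℕ => F)) G]

lemma sigmaComparison_awayGen :
    sigmaComparison G (fun _ : ℕ => F) ≫ G.map (awayGen F μ) =
      awayGen (G.obj F) (G.map μ) ≫ sigmaComparison G (fun _ : ℕ => F) := by
  apply Sigma.hom_ext
  intro n
  rw [ι_comp_sigmaComparison_assoc, ← Functor.map_comp, ι_awayGen, Functor.map_sub,
    Functor.map_comp, ι_awayGen_assoc, Preadditive.sub_comp, Category.assoc,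
    ι_comp_sigmaComparison, ι_comp_sigmaComparison]

variable [PreservesColimit (parallelPair (awayGen F μ) 0) G]

/-- `G` commutes with the telescope. -/
noncomputable def mapCokernelAwayGenIso :
    G.obj (cokernel (awayGen F μ)) ≅ cokernel (awayGen (G.obj F) (G.map μ)) :=
  PreservesCokernel.iso G (awayGen F μ) ≪≫
    cokernel.mapIso (G.map (awayGen F μ)) (awayGen (G.obj F) (G.map μ))
      (PreservesCoproduct.iso G (fun _ : ℕ => F)) (PreservesCoproduct.iso G (fun _ : ℕ => F)) (by
        rw [← cancel_epi (PreservesCoproduct.iso G (fun _ : ℕ => F)).inv, Iso.inv_hom_id_assoc,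
          PreservesCoproduct.inv_hom, ← Category.assoc, sigmaComparison_awayGen, Category.assoc,
          ← PreservesCoproduct.inv_hom, Iso.inv_hom_id, Category.comp_id])

end Groth.Agent.H45.DerCompl
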