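import Groth.Agent.H45.DerCompl.AwayCrit
import Groth.Agent.H45.DerCompl.AwayFunctor
import Groth.Agent.H33.SheafMod.Grothendieck
import Groth.Prelude.Def_DerComp

/-!
# The vanishing condition of derived completeness on a ringed site, through `1 - g·shift` (helper45)

For an object `V`, a section `g ∈ O(V)` and `X ∈ D(O)`: all maps `j_{V!}O_{V,g}[0] ⟶ X⟦n⟧` vanish (for all `n`) iff
for all `n` the operator `(x_i) ↦ (x_i - μ_g ≫ x_{i+1})` on sequences in `Hom(j_{V!}O_V[0], X⟦n⟧)` is bijective, where
`μ_g` is multiplication by `g` on `j_{V!}O_V`.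
-/

set_option autoImplicit false
universe w u
open CategoryTheory CategoryTheory.Limits Opposite DerivedCategory

namespace Groth.Agent.H45.DerCompl

variable {C : Type u} [SmallCategory C] {J : GrothendieckTopology C} (O : Sheaf J CommRingCat.{u})

instance : IsGrothendieckAbelian.{u} (ModSite.Mod O) :=
  Groth.Agent.H33.SheafMod.isGrothendieckAbelian J (ModSite.ringSh O)

instance hasExactColimits_finset_mod :
    HasExactColimitsOfShape (Finset (Discrete ℕ)) (ModSite.Mod O) := by
  have : AB5OfSize.{0, 0} (ModSite.Mod O) := AB5OfSize_shrink.{0, 0, u, u} _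
  infer_instance

/-- multiplication by `g ∈ O(V)` on `j_{V!}O_V`. -/
noncomputable def mulFree (V : C) (g : O.obj.obj (op V)) :
    ModSite.freeOn O V ⟶ ModSite.freeOn O V :=
  (ModSite.extZero O V).map
    (DerComp.smulEnd (DerComp.GSec.ofSect O V g) (ModSite.unit (O.over V)))

instance (V : C) : PreservesColimitsOfSize.{0, 0} (ModSite.extZero O V) :=
  (ModSite.extZeroAdj O V).leftAdjoint_preservesColimits

/-- `j_{V!}O_{V,g}` is the telescope of multiplication by `g` on `j_{V!}O_V`. -/
noncomputable def extZeroAwayIso (V : C) (g : O.obj.obj (op V)) :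
    (ModSite.extZero O V).obj (DerComp.awayOver O V g) ≅
      cokernel (awayGen (ModSite.freeOn O V) (mulFree O V g)) :=
  mapCokernelAwayGenIso (ModSite.extZero O V) (ModSite.unit (O.over V))
    (DerComp.smulEnd (DerComp.GSec.ofSect O V g) (ModSite.unit (O.over V)))

variable [HasDerivedCategory.{w} (ModSite.Mod O)]

/-- **criterion for the vanishing condition of derived completeness.** -/
theorem derComp_criterion (V : C) (g : O.obj.obj (op V)) (X : DerivedCategory (ModSite.Mod O)) :
    (∀ n : ℤ, Subsingleton ((DerivedCategory.singleFunctor (ModSite.Mod O) 0).obj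
        ((ModSite.extZero O V).obj (DerComp.awayOver O V g)) ⟶ X⟦n⟧)) ↔
      ∀ n : ℤ, Function.Bijective (teleOp (ModSite.freeOn O V) (mulFree O V g) X n) := by
  rw [← away_criterion]
  refine forall_congr' (fun n => ?_)
  let e := (DerivedCategory.singleFunctor (ModSite.Mod O) 0).mapIso (extZeroAwayIso O V g)
  exact (Iso.homFromEquiv e (Z := X⟦n⟧)).subsingleton_congr

end Groth.Agent.H45.DerCompl
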