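import Groth.Agent.H45.SheafTensor.LocalIso
import Groth.Agent.H45.SheafTensor.Sheafify
import Groth.Prelude.Def_DerComp
import Mathlib.Algebra.Homology.Linear

/-!
# The tensor product of sheaves of modules is bilinear over global sections (helper45)

For a global section `s` of `O`: `(s·) ⊗ 1 = 1 ⊗ (s·)` on `A ⊗_O B` (`tensorBi_map_smulEnd`) and on the total complex
`Tot(X ⊗_O Y)` (`mapBifunctorMap_smul_id`).
-/

set_option autoImplicit false
universe u
open CategoryTheory CategoryTheory.Limits Opposite MonoidalCategory HomologicalComplex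

namespace Groth.Agent.H45.DerCompl

variable {C : Type u} [SmallCategory C] {J : GrothendieckTopology C} {O : Sheaf J CommRingCat.{u}}

open DerComp

/-- At the level of presheaves: `(s·) ⊗ 1 = 1 ⊗ (s·)`. -/
lemma whiskerRight_smulEnd_eq (s : GSec O) (A B : ModSite.Mod O) :
    (forg O).map (smulEnd s A) ▷ (forg O).obj B = (forg O).obj A ◁ (forg O).map (smulEnd s B) := by
  ext X x
  induction x using TensorProduct.induction_on with
  | zero => exact (map_zero _).trans (map_zero _).symm
  | tmul a b =>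
    let r : (O.obj ⋙ forget₂ CommRingCat RingCat).obj X := GSec.val' s X
    change (r • a) ⊗ₜ b = a ⊗ₜ (r • b)
    exact TensorProduct.smul_tmul r a b
  | add x y hx hy =>
    exact (map_add _ x y).trans ((congrArg₂ (· + ·) hx hy).trans (map_add _ x y).symm)

/-- `(s·) ⊗ 1 = 1 ⊗ (s·)` for sheaves of modules. -/
lemma tensorBi_map_smulEnd (s : GSec O) (A B : ModSite.Mod O) :
    ((ModSite.tensorBi O).map (smulEnd s A)).app B = ((ModSite.tensorBi O).obj A).map (smulEnd s B) :=
  congrArg (shf O).map (whiskerRight_smulEnd_eq s A B)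

lemma smul_id_eq_smulEnd (s : GSec O) (A : ModSite.Mod O) : s • 𝟙 A = smulEnd s A := by
  rw [smul_def, Category.comp_id]

/-- `(s·) ⊗ 1 = 1 ⊗ (s·)` on `Tot(X ⊗ Y)`. -/
lemma mapBifunctorMap_smul_id (s : GSec O) (X Y : CochainComplex (ModSite.Mod O) ℤ) :
    mapBifunctorMap (s • 𝟙 X) (𝟙 Y) (ModSite.tensorBi O) (ComplexShape.up ℤ) =
      mapBifunctorMap (𝟙 X) (s • 𝟙 Y) (ModSite.tensorBi O) (ComplexShape.up ℤ) := by
  ext n : 1
  apply mapBifunctor.hom_ext
  intro p q h
  rw [ι_mapBifunctorMap, ι_mapBifunctorMap]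
  simp only [smul_f_apply, id_f, CategoryTheory.Functor.map_id, NatTrans.id_app, Category.id_comp,
    smul_id_eq_smulEnd]
  rw [tensorBi_map_smulEnd]

end Groth.Agent.H45.DerCompl
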