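import Groth.Agent.H45.DerCompl.SeqColim
import Groth.Agent.H45.DerCompl.TensorLinear
import Groth.Agent.H45.DerCompl.SiteCrit
import Groth.Agent.H45.SheafTensor.FlatFiltered
import Groth.Agent.H31.ExtZeroProj

/-!
# `O_s` is flat, and `N ⟶ N ⊗ O_s` is an isomorphism when `s` is invertible on `N` (helper45)
-/

set_option autoImplicit false
universe u
open CategoryTheory CategoryTheory.Limits Opposite

namespace Groth.Agent.H45.DerCompl

variable {C : Type u} [SmallCategory C] {J : GrothendieckTopology C} {O : Sheaf J CommRingCat.{u}}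

open DerComp

instance hasExactColimits_nat_mod : HasExactColimitsOfShape ℕ (ModSite.Mod O) := by
  have : AB5OfSize.{0, 0} (ModSite.Mod O) := AB5OfSize_shrink.{0, 0, u, u} _
  infer_instance

instance preservesColimits_tensorBi_obj_zero (N : ModSite.Mod O) :
    PreservesColimitsOfSize.{0, 0} ((ModSite.tensorBi O).obj N) :=
  preservesColimitsOfSize_shrink.{0, u, 0, u} _

instance preservesColimits_tensorBi_flip_obj_zero (N : ModSite.Mod O) :
    PreservesColimitsOfSize.{0, 0} ((ModSite.tensorBi O).flip.obj N) :=
  preservesColimitsOfSize_shrink.{0, u, 0, u} _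

/-- A sequential colimit of flat modules is flat. -/
theorem isFlat_of_isColimit_nat (D : ℕ ⥤ ModSite.Mod O) (hD : ∀ i, ModSite.IsFlat (D.obj i))
    (c : Cocone D) (hc : IsColimit c) : ModSite.IsFlat c.pt := by
  rw [isFlat_iff]
  have hpres : PreservesColimit D (ModSite.tensorBi O).flip := by
    apply preservesColimit_of_evaluation
    intro H
    exact preservesColimit_of_natIso _ (flipCompEvaluation (ModSite.tensorBi O) H).symm
  exact preservesFiniteLimits_of_isColimit
    (D ⋙ (ModSite.tensorBi O).flip) (fun i => (hD i).1)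
    ((ModSite.tensorBi O).flip.mapCocone c) (isColimitOfPreserves _ hc)

variable (s : GSec O)

/-- the sequence `O →s O →s O → …`. -/
noncomputable abbrev awaySeq : ℕ ⥤ ModSite.Mod O :=
  seqD (ModSite.unit O) (smulEnd s (ModSite.unit O))

/-- the standard colimit cocone on `awaySeq s`, with point `O_s`. -/
noncomputable def awayCocone : Cocone (awaySeq s) :=
  seqCocone (ModSite.unit O) (smulEnd s (ModSite.unit O))

noncomputable def isColimitAwayCocone : IsColimit (awayCocone s) :=
  isColimitSeqCocone (ModSite.unit O) (smulEnd s (ModSite.unit O))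

lemma awayCocone_pt : (awayCocone s).pt = locAway s (ModSite.unit O) := rfl

lemma awayCocone_ι_zero : (awayCocone s).ι.app 0 = toLocAway s (ModSite.unit O) := rfl

variable {s}

/-- the point of a colimit cocone on `O →s O → …` is flat. -/
theorem isFlat_pt_of_isColimit (c : Cocone (awaySeq s)) (hc : IsColimit c) : ModSite.IsFlat c.pt :=
  isFlat_of_isColimit_nat _ (fun _ => Groth.Agent.H31.ExtZero.isFlat_unit O) c hc

/-- if `s` is invertible on `N` then `N ⊗ O ⟶ N ⊗ O_s` is an isomorphism. -/
theorem isIso_tensor_ι_zero (c : Cocone (awaySeq s)) (hc : IsColimit c) (N : ModSite.Mod O)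
    [IsIso (smulEnd s N)] : IsIso (((ModSite.tensorBi O).obj N).map (c.ι.app 0)) := by
  refine isIso_ι_zero_of_isIso_map (awaySeq s ⋙ (ModSite.tensorBi O).obj N)
    (((ModSite.tensorBi O).obj N).mapCocone c) (isColimitOfPreserves _ hc) (fun n => ?_)
  have h1 : (awaySeq s ⋙ (ModSite.tensorBi O).obj N).map (homOfLE (n.le_add_right 1)) =
      ((ModSite.tensorBi O).map (smulEnd s N)).app (ModSite.unit O) := by
    rw [tensorBi_map_smulEnd]
    exact congrArg ((ModSite.tensorBi O).obj N).map (seqD_map_succ _ _ n)
  rw [h1]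
  haveI : IsIso ((ModSite.tensorBi O).map (smulEnd s N)) := Functor.map_isIso _ _
  exact NatIso.isIso_app_of_isIso ((ModSite.tensorBi O).map (smulEnd s N)) (ModSite.unit O)

end Groth.Agent.H45.DerCompl
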