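import Groth.Agent.H45.DerCompl.SigmaMono

/-!
# The telescope map `1 - μ·shift` on a countable coproduct is a monomorphism (helper45)

For an object `F` of an abelian category with exact filtered colimits and an endomorphism `μ`, the endomorphism
`awayGen F μ` of `⊕_ℕ F` sending the `n`-th summand by `ι_n - μ ≫ ι_{n+1}` is a monomorphism.
-/

set_option autoImplicit false
universe v u
open CategoryTheory CategoryTheory.Limits

namespace Groth.Agent.H45.DerCompl

variable {A : Type u} [Category.{v} A] [Abelian A] (F : A) (μ : F ⟶ F)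
  [HasCoproduct (fun _ : ℕ => F)]

/-- the endomorphism `1 - μ·shift` of `⊕_ℕ F`. -/
noncomputable def awayGen : (∐ fun _ : ℕ => F) ⟶ ∐ fun _ : ℕ => F :=
  Sigma.desc fun n => Sigma.ι (fun _ : ℕ => F) n - μ ≫ Sigma.ι (fun _ : ℕ => F) (n + 1)

@[reassoc]
lemma ι_awayGen (n : ℕ) :
    Sigma.ι (fun _ : ℕ => F) n ≫ awayGen F μ =
      Sigma.ι (fun _ : ℕ => F) n - μ ≫ Sigma.ι (fun _ : ℕ => F) (n + 1) :=
  Sigma.ι_desc _ _

lemma awayGen_π_zero : awayGen F μ ≫ Sigma.π (fun _ : ℕ => F) 0 = Sigma.π (fun _ : ℕ => F) 0 := by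
  apply Sigma.hom_ext
  intro n
  rw [ι_awayGen_assoc, Preadditive.sub_comp, Category.assoc,
    Sigma.ι_π_of_ne (fun _ : ℕ => F) (Nat.succ_ne_zero n), comp_zero, sub_zero]

lemma awayGen_π_succ (b : ℕ) :
    awayGen F μ ≫ Sigma.π (fun _ : ℕ => F) (b + 1) =
      Sigma.π (fun _ : ℕ => F) (b + 1) - Sigma.π (fun _ : ℕ => F) b ≫ μ := by
  apply Sigma.hom_ext
  intro n
  rw [ι_awayGen_assoc, Preadditive.sub_comp, Preadditive.comp_sub, Category.assoc]
  by_cases h : n = b
  · subst h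
    rw [Sigma.ι_π_eq_id (fun _ : ℕ => F), Sigma.ι_π_eq_id_assoc (fun _ : ℕ => F), Category.comp_id,
      Sigma.ι_π_of_ne (fun _ : ℕ => F) (Nat.ne_of_lt (Nat.lt_succ_self n))]
  · rw [Sigma.ι_π_of_ne (fun _ : ℕ => F) (fun h' => h (Nat.succ_injective h')), comp_zero,
      sub_zero, Sigma.ι_π_of_ne_assoc (fun _ : ℕ => F) h, zero_comp, sub_zero]

variable [HasColimitsOfShape (Finset (Discrete ℕ)) A]
  [HasExactColimitsOfShape (Finset (Discrete ℕ)) A]

/-- **`1 - μ·shift` is a monomorphism (AB5).** -/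
theorem mono_awayGen : Mono (awayGen F μ) := by
  apply Preadditive.mono_of_cancel_zero
  intro Z k hk
  apply eq_zero_of_comp_sigmaπ
  intro b
  induction b with
  | zero =>
    rw [← awayGen_π_zero F μ, ← Category.assoc, hk, zero_comp]
  | succ b ih =>
    have h1 : k ≫ awayGen F μ ≫ Sigma.π (fun _ : ℕ => F) (b + 1) = 0 := by
      rw [← Category.assoc, hk, zero_comp]
    rw [awayGen_π_succ, Preadditive.comp_sub, ← Category.assoc, ih, zero_comp, sub_zero] at h1
    exact h1

end Groth.Agent.H45.DerCompl
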