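import Groth.Agent.H45.DerCompl.AwayGen

/-!
# `μ` is invertible on the telescope of `μ` (helper45)

On `coker (1 - μ·shift : ⊕_ℕ F ⟶ ⊕_ℕ F)` any endomorphism `m` compatible with `μ` on every summand is an isomorphism
(its inverse is induced by the shift of summands).
-/

set_option autoImplicit false
universe v u
open CategoryTheory CategoryTheory.Limits

namespace Groth.Agent.H45.DerCompl

variable {A : Type u} [Category.{v} A] [Abelian A] (F : A) (μ : F ⟶ F)
  [HasCoproduct (fun _ : ℕ => F)]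

/-- the shift of summands `ι_n ↦ ι_{n+1}`. -/
noncomputable def sigmaShift : (∐ fun _ : ℕ => F) ⟶ ∐ fun _ : ℕ => F :=
  Sigma.desc fun n => Sigma.ι (fun _ : ℕ => F) (n + 1)

@[reassoc]
lemma ι_sigmaShift (n : ℕ) :
    Sigma.ι (fun _ : ℕ => F) n ≫ sigmaShift F = Sigma.ι (fun _ : ℕ => F) (n + 1) :=
  Sigma.ι_desc _ _

lemma sigmaShift_awayGen : sigmaShift F ≫ awayGen F μ = awayGen F μ ≫ sigmaShift F := by
  apply Sigma.hom_ext
  intro n
  rw [ι_sigmaShift_assoc, ι_awayGen, ι_awayGen_assoc, Preadditive.sub_comp, ι_sigmaShift,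
    Category.assoc, ι_sigmaShift]

/-- the endomorphism of the telescope induced by the shift. -/
noncomputable def cokerShift : cokernel (awayGen F μ) ⟶ cokernel (awayGen F μ) :=
  cokernel.desc (awayGen F μ) (sigmaShift F ≫ cokernel.π (awayGen F μ)) (by
    rw [← Category.assoc, ← sigmaShift_awayGen, Category.assoc, cokernel.condition, comp_zero])

@[reassoc]
lemma π_cokerShift :
    cokernel.π (awayGen F μ) ≫ cokerShift F μ = sigmaShift F ≫ cokernel.π (awayGen F μ) :=
  cokernel.π_desc _ _ _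

/-- in the telescope, the `n`-th summand is `μ` followed by the `(n+1)`-st. -/
lemma ι_π_eq (n : ℕ) :
    Sigma.ι (fun _ : ℕ => F) n ≫ cokernel.π (awayGen F μ) =
      μ ≫ Sigma.ι (fun _ : ℕ => F) (n + 1) ≫ cokernel.π (awayGen F μ) := by
  have h : Sigma.ι (fun _ : ℕ => F) n ≫ awayGen F μ ≫ cokernel.π (awayGen F μ) = 0 := by
    rw [cokernel.condition, comp_zero]
  rw [ι_awayGen_assoc, Preadditive.sub_comp, sub_eq_zero, Category.assoc] at h
  exact h

/-- **an endomorphism of the telescope which is `μ` on every summand is an isomorphism.** -/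
theorem isIso_of_comm (m : cokernel (awayGen F μ) ⟶ cokernel (awayGen F μ))
    (hm : ∀ n, Sigma.ι (fun _ : ℕ => F) n ≫ cokernel.π (awayGen F μ) ≫ m =
      μ ≫ Sigma.ι (fun _ : ℕ => F) n ≫ cokernel.π (awayGen F μ)) : IsIso m := by
  refine ⟨⟨cokerShift F μ, ?_, ?_⟩⟩
  · apply coequalizer.hom_ext
    apply Sigma.hom_ext
    intro n
    change Sigma.ι (fun _ : ℕ => F) n ≫ cokernel.π (awayGen F μ) ≫ m ≫ cokerShift F μ =
      Sigma.ι (fun _ : ℕ => F) n ≫ cokernel.π (awayGen F μ) ≫ 𝟙 _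
    have h1 : Sigma.ι (fun _ : ℕ => F) n ≫ cokernel.π (awayGen F μ) ≫ m ≫ cokerShift F μ =
        (Sigma.ι (fun _ : ℕ => F) n ≫ cokernel.π (awayGen F μ) ≫ m) ≫ cokerShift F μ := by
      simp only [Category.assoc]
    rw [Category.comp_id, h1, hm n, Category.assoc, Category.assoc, π_cokerShift,
      ι_sigmaShift_assoc]
    exact (ι_π_eq F μ n).symm
  · apply coequalizer.hom_ext
    apply Sigma.hom_ext
    intro n
    change Sigma.ι (fun _ : ℕ => F) n ≫ cokernel.π (awayGen F μ) ≫ cokerShift F μ ≫ m =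
      Sigma.ι (fun _ : ℕ => F) n ≫ cokernel.π (awayGen F μ) ≫ 𝟙 _
    rw [Category.comp_id, π_cokerShift_assoc, ι_sigmaShift_assoc, hm (n + 1)]
    exact (ι_π_eq F μ n).symm

end Groth.Agent.H45.DerCompl
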