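import Groth.Agent.H45.DerCompl.TeleTri2
import Mathlib.CategoryTheory.Yoneda

/-!
# The derived limit of multiplication by `s` as a coreflection (helper45)

In the setting of `TeleTri`: the derived limit `T(K, s)` with its map to `K` is the coreflection of `K` into the objects on
which `s` is invertible; so any other such coreflection `ε : R' ⟶ K` is a derived limit (`exists_triangle_of_coreflection`).
If `L ⊣ R'` with `L(s·1)` invertible for all objects and `η : 𝟭 ⟶ L` is invertible on the objects on which `s` is, then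
`R'(K)` is such a coreflection (`exists_triangle_of_adjunction`).
-/

set_option autoImplicit false
open CategoryTheory CategoryTheory.Limits CategoryTheory.Pretriangulated

namespace Groth.Agent.H45.DerCompl.TeleTri

variable {T : Type*} [Category T] [Preadditive T] [HasZeroObject T] [HasShift T ℤ]
  [∀ n : ℤ, (shiftFunctor T n).Additive] [Pretriangulated T]
  {R : Type*} [Ring R] [Linear R T] [∀ n : ℤ, (shiftFunctor T n).Linear R] (s : R)
  [∀ K : T, HasProduct (cst K)]

/-- a coreflection of `K` into the objects on which `s` is invertible is a derived limit of multiplication by `s`. -/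
theorem exists_triangle_of_coreflection (K R' : T) (ε : R' ⟶ K) [IsIso (s • 𝟙 R')]
    (hε : ∀ M : T, IsIso (s • 𝟙 M) → Function.Bijective (fun g : M ⟶ R' => g ≫ ε)) :
    ∃ (a : R' ⟶ ∏ᶜ (cst K)) (c : ∏ᶜ (cst K) ⟶ R'⟦(1 : ℤ)⟧),
      Triangle.mk a (teleMap s K) c ∈ distTriang T := by
  obtain ⟨H⟩ := nonempty_holimTri s K
  haveI := H.isIso_smulId_L
  obtain ⟨φ, hφ⟩ := (H.bijective_comp_a_π (M := R')).2 ε
  obtain ⟨ψ, hψ⟩ := (hε H.L inferInstance).2 (H.a ≫ Pi.π (cst K) 0)
  replace hφ : φ ≫ H.a ≫ Pi.π (cst K) 0 = ε := hφ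
  replace hψ : ψ ≫ ε = H.a ≫ Pi.π (cst K) 0 := hψ
  have h1 : φ ≫ ψ = 𝟙 _ := (hε R' inferInstance).1 (by
    change (φ ≫ ψ) ≫ ε = 𝟙 _ ≫ ε
    rw [Category.assoc, hψ, hφ, Category.id_comp])
  have h2 : ψ ≫ φ = 𝟙 _ := (H.bijective_comp_a_π (M := H.L)).1 (by
    change (ψ ≫ φ) ≫ H.a ≫ Pi.π (cst K) 0 = 𝟙 _ ≫ H.a ≫ Pi.π (cst K) 0
    rw [Category.assoc, hφ, hψ, Category.id_comp])
  let e : R' ≅ H.L := ⟨φ, ψ, h1, h2⟩
  refine ⟨e.hom ≫ H.a, H.c ≫ e.inv⟦(1 : ℤ)⟧', ?_⟩
  refine isomorphic_distinguished _ H.dist _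
    (Triangle.isoMk _ _ e (Iso.refl _) (Iso.refl _) ?_ ?_ ?_)
  · exact Category.comp_id _
  · exact (Category.comp_id _).trans (Category.id_comp _).symm
  · change (H.c ≫ e.inv⟦(1 : ℤ)⟧') ≫ e.hom⟦(1 : ℤ)⟧' = 𝟙 _ ≫ H.c
    rw [Category.id_comp, Category.assoc, ← Functor.map_comp, e.inv_hom_id, CategoryTheory.Functor.map_id,
      Category.comp_id]

variable {s} in
/-- the right adjoint of a functor `L` inverting all `s·1`, with `𝟭 ⟶ L` invertible on the objects on which `s` is, takes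
values in derived limits of multiplication by `s`. -/
theorem exists_triangle_of_adjunction {L R' : T ⥤ T} (adj : L ⊣ R') (η : 𝟭 T ⟶ L)
    (hL : ∀ Y : T, IsIso (L.map (s • 𝟙 Y)))
    (hη : ∀ X : T, IsIso (s • 𝟙 X) → IsIso (η.app X)) (K : T) :
    ∃ (a : R'.obj K ⟶ ∏ᶜ (cst K)) (c : ∏ᶜ (cst K) ⟶ (R'.obj K)⟦(1 : ℤ)⟧),
      Triangle.mk a (teleMap s K) c ∈ distTriang T := by
  haveI : IsIso (s • 𝟙 (R'.obj K)) := by
    apply isIso_of_yoneda_map_bijective
    intro Y
    have hb : Function.Bijective (fun f : L.obj Y ⟶ K => L.map (s • 𝟙 Y) ≫ f) := by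
      haveI := hL Y
      exact ⟨fun f f' h => (cancel_epi (L.map (s • 𝟙 Y))).1 h,
        fun f => ⟨inv (L.map (s • 𝟙 Y)) ≫ f, by simp⟩⟩
    have heq : (fun g : Y ⟶ R'.obj K => g ≫ (s • 𝟙 (R'.obj K))) =
        (adj.homEquiv Y K) ∘ (fun f : L.obj Y ⟶ K => L.map (s • 𝟙 Y) ≫ f) ∘ (adj.homEquiv Y K).symm := by
      funext g
      simp only [Function.comp]
      rw [Adjunction.homEquiv_naturality_left, Equiv.apply_symm_apply, smulId_comp, comp_smulId]
    rw [heq]
    exact (adj.homEquiv Y K).bijective.comp (hb.comp (adj.homEquiv Y K).symm.bijective)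
  refine exists_triangle_of_coreflection s K (R'.obj K) (η.app (R'.obj K) ≫ adj.counit.app K) ?_
  intro M hM
  haveI := hη M hM
  have heq : (fun g : M ⟶ R'.obj K => g ≫ η.app (R'.obj K) ≫ adj.counit.app K) =
      (fun f : L.obj M ⟶ K => η.app M ≫ f) ∘ (adj.homEquiv M K).symm := by
    funext g
    simp only [Function.comp]
    rw [Adjunction.homEquiv_counit, ← Category.assoc, ← Category.assoc]
    congr 1
    exact (η.naturality g)
  rw [heq]
  refine Function.Bijective.comp ?_ (adj.homEquiv M K).symm.bijective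
  exact ⟨fun f f' h => (cancel_epi (η.app M)).1 h, fun f => ⟨inv (η.app M) ≫ f, by simp⟩⟩

end Groth.Agent.H45.DerCompl.TeleTri
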