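import Groth.Agent.H45.DerCompl.VanishTele

/-!
# The vanishing condition of derived completeness is local (helper45)

`vanishing_of_cover`: for `K ∈ D(O)`, an object `W`, a section `a ∈ O(W)` and a covering sieve `T` of `W`: if all maps
`j_{W'!}O_{W',a|W'}[0] ⟶ K⟦n⟧` vanish for all arrows `W' ⟶ W` of `T`, then all maps `j_{W!}O_{W,a}[0] ⟶ K⟦n⟧` vanish.
-/

set_option autoImplicit false
universe w u
open CategoryTheory CategoryTheory.Limits Opposite DerivedCategory

namespace Groth.Agent.H45.DerCompl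

variable {C : Type u} [SmallCategory C] {J : GrothendieckTopology C} {O : Sheaf J CommRingCat.{u}}

/-- the objects of `C/W` whose structure arrow belongs to a covering sieve of `W` are cofinal. -/
lemma basis_of_sieve (W : C) (T : Sieve W) (hT : T ∈ J W) (U : Over W) :
    ∃ (ι : Type u) (Y : ι → Over W) (g : ∀ i, Y i ⟶ U),
      Sieve.ofArrows Y g ∈ (J.over W) U ∧ ∀ i, Y i ∈ {Y : Over W | T Y.hom} := by
  let ι : Type u := Σ V : C, {q : V ⟶ U.left // T (q ≫ U.hom)}
  refine ⟨ι, fun i => Over.mk (i.2.1 ≫ U.hom), fun i => Over.homMk i.2.1, ?_, fun i => i.2.2⟩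
  rw [GrothendieckTopology.mem_over_iff]
  refine J.superset_covering ?_ (J.pullback_stable U.hom hT)
  intro V q hq
  rw [Sieve.overEquiv_iff]
  exact Sieve.ofArrows_mk (fun i : ι => Over.mk (i.2.1 ≫ U.hom))
    (fun i : ι => (Over.homMk i.2.1 : Over.mk (i.2.1 ≫ U.hom) ⟶ U)) (⟨V, q, hq⟩ : ι)

theorem tele_of_cover (I : CochainComplex (ModSite.Mod O) ℤ) [I.IsKInjective] (W : C)
    (a : O.obj.obj (op W)) (T : Sieve W) (hT : T ∈ J W)
    (h : ∀ ⦃W' : C⦄ (p : W' ⟶ W), T p → ∀ n : ℤ,
      TeleInj I W' ((O.obj.map p.op).hom a) n ∧ TeleSurj I W' ((O.obj.map p.op).hom a) n) (n : ℤ) :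
    TeleInj I W a n ∧ TeleSurj I W a n := by
  have hK := isKInjective_restrCx W I
  have key := tele_of_basis (DerComp.GSec.ofSect O W a)
    (((ModSite.restr O W).mapHomologicalComplex (ComplexShape.up ℤ)).obj I)
    {Y : Over W | T Y.hom} (basis_of_sieve W T hT)
    (fun Y hY m => by
      rw [teleInj_restr_iff, teleSurj_restr_iff]
      exact h Y.hom hY m) (Over.mk (𝟙 W)) n
  rw [teleInj_restr_iff, teleSurj_restr_iff] at key
  have ha : (O.obj.map (Over.mk (𝟙 W)).hom.op).hom a = a := by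
    change (O.obj.map (𝟙 W).op).hom a = a
    rw [op_id, O.obj.map_id]
    rfl
  rw [ha] at key
  exact key

variable [HasDerivedCategory.{w} (ModSite.Mod O)]

/-- **locality of the vanishing condition.** -/
theorem vanishing_of_cover (K : DerivedCategory (ModSite.Mod O)) (W : C) (a : O.obj.obj (op W))
    (T : Sieve W) (hT : T ∈ J W)
    (h : ∀ ⦃W' : C⦄ (p : W' ⟶ W), T p → ∀ n : ℤ,
      Subsingleton ((DerivedCategory.singleFunctor (ModSite.Mod O) 0).obj
        ((ModSite.extZero O W').obj (DerComp.awayOver O W' ((O.obj.map p.op).hom a))) ⟶ K⟦n⟧)) :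
    ∀ n : ℤ, Subsingleton ((DerivedCategory.singleFunctor (ModSite.Mod O) 0).obj
        ((ModSite.extZero O W).obj (DerComp.awayOver O W a)) ⟶ K⟦n⟧) := by
  obtain ⟨I, hI, ⟨e⟩⟩ := exists_kInj_model K
  rw [vanishing_iff_tele K I e W a]
  exact tele_of_cover I W a T hT (fun W' p hp =>
    (vanishing_iff_tele K I e W' ((O.obj.map p.op).hom a)).1 (h p hp))

end Groth.Agent.H45.DerCompl
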