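import Groth.Agent.H45.DerCompl.CoverLocality
import Groth.Agent.H35.DerCompleteIdeal

/-!
# The sheaf of ideals of sections `f` with `T(K|_U, f) = 0` (helper45)

For `K ∈ D(O)` the sections `f ∈ O(U)` such that all maps `j_{V!}O_{V,f|V}[0] ⟶ K⟦n⟧` vanish for all `V ⟶ U` and all `n`
form a sheaf of ideals `vanIdealSh O K`.
-/

set_option autoImplicit false
universe w u
open CategoryTheory CategoryTheory.Limits Opposite DerivedCategory

namespace Groth.Agent.H45.DerCompl

variable {C : Type u} [SmallCategory C] {J : GrothendieckTopology C} (O : Sheaf J CommRingCat.{u})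

section ring

variable (V : C)

lemma ofSect_add (a b : O.obj.obj (op V)) :
    DerComp.GSec.ofSect O V (a + b) = DerComp.GSec.ofSect O V a + DerComp.GSec.ofSect O V b :=
  Subtype.ext (funext (fun Y => map_add (O.obj.map Y.hom.op).hom a b))

lemma ofSect_mul (a b : O.obj.obj (op V)) :
    DerComp.GSec.ofSect O V (a * b) = DerComp.GSec.ofSect O V a * DerComp.GSec.ofSect O V b :=
  Subtype.ext (funext (fun Y => map_mul (O.obj.map Y.hom.op).hom a b))

lemma ofSect_one : DerComp.GSec.ofSect O V 1 = 1 :=
  Subtype.ext (funext (fun Y => map_one (O.obj.map Y.hom.op).hom))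

lemma ofSect_zero : DerComp.GSec.ofSect O V 0 = 0 :=
  Subtype.ext (funext (fun Y => map_zero (O.obj.map Y.hom.op).hom))

lemma mulFree_add (a b : O.obj.obj (op V)) :
    mulFree O V (a + b) = mulFree O V a + mulFree O V b := by
  dsimp only [mulFree]
  rw [ofSect_add, DerComp.smulEnd_add, Functor.map_add]

lemma mulFree_mul (a b : O.obj.obj (op V)) :
    mulFree O V (a * b) = mulFree O V a ≫ mulFree O V b := by
  dsimp only [mulFree]
  rw [ofSect_mul, ← DerComp.smulEnd_comp, Functor.map_comp]

lemma mulFree_one : mulFree O V 1 = 𝟙 _ := by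
  dsimp only [mulFree]
  rw [ofSect_one, DerComp.smulEnd_one, CategoryTheory.Functor.map_id]

lemma mulFree_zero : mulFree O V 0 = 0 := by
  dsimp only [mulFree]
  rw [ofSect_zero, DerComp.smulEnd_zero, Functor.map_zero]

end ring

variable [HasDerivedCategory.{w} (ModSite.Mod O)] (K : DerivedCategory (ModSite.Mod O))

/-- `H^n(V, K)`. -/
abbrev HV (V : C) (n : ℤ) : Type w :=
  (DerivedCategory.singleFunctor (ModSite.Mod O) 0).obj (ModSite.freeOn O V) ⟶ K⟦n⟧

/-- `H^n(V, K)` is a module over `O(V)`. -/
noncomputable def modV (V : C) (n : ℤ) : Module (O.obj.obj (op V)) (HV O K V n) where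
  smul a x := (DerivedCategory.singleFunctor (ModSite.Mod O) 0).map (mulFree O V a) ≫ x
  one_smul x := by
    change (DerivedCategory.singleFunctor (ModSite.Mod O) 0).map (mulFree O V 1) ≫ x = x
    rw [mulFree_one, CategoryTheory.Functor.map_id, Category.id_comp]
  mul_smul a b x := by
    change (DerivedCategory.singleFunctor (ModSite.Mod O) 0).map (mulFree O V (a * b)) ≫ x =
      (DerivedCategory.singleFunctor (ModSite.Mod O) 0).map (mulFree O V a) ≫
        (DerivedCategory.singleFunctor (ModSite.Mod O) 0).map (mulFree O V b) ≫ x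
    rw [mulFree_mul, Functor.map_comp, Category.assoc]
  smul_zero a := comp_zero
  smul_add a x y := Preadditive.comp_add _ _ _ _ _ _
  add_smul a b x := by
    change (DerivedCategory.singleFunctor (ModSite.Mod O) 0).map (mulFree O V (a + b)) ≫ x =
      (DerivedCategory.singleFunctor (ModSite.Mod O) 0).map (mulFree O V a) ≫ x +
        (DerivedCategory.singleFunctor (ModSite.Mod O) 0).map (mulFree O V b) ≫ x
    rw [mulFree_add, Functor.map_add, Preadditive.add_comp]
  zero_smul x := by
    change (DerivedCategory.singleFunctor (ModSite.Mod O) 0).map (mulFree O V 0) ≫ x = 0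
    rw [mulFree_zero, Functor.map_zero, zero_comp]

/-- `H^n(V, K)` is a module over `O(U)` for `V ⟶ U`. -/
noncomputable def modU {U V : C} (g : V ⟶ U) (n : ℤ) : Module (O.obj.obj (op U)) (HV O K V n) :=
  @Module.compHom _ _ _ _ _ (modV O K V n) _ (O.obj.map g.op).hom

/-- the ideal of `f ∈ O(U)` with vanishing condition for all `V ⟶ U`. -/
noncomputable def vanIdeal (U : C) : Ideal (O.obj.obj (op U)) :=
  ⨅ (V : C) (g : V ⟶ U) (n : ℤ),
    @Groth.Agent.H35.PhiIdeal (O.obj.obj (op U)) _ (HV O K V n) _ (modU O K g n)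

lemma mem_vanIdeal (U : C) (f : O.obj.obj (op U)) :
    f ∈ vanIdeal O K U ↔ ∀ (V : C) (g : V ⟶ U) (n : ℤ),
      Subsingleton ((DerivedCategory.singleFunctor (ModSite.Mod O) 0).obj
        ((ModSite.extZero O V).obj (DerComp.awayOver O V ((O.obj.map g.op).hom f))) ⟶ K⟦n⟧) := by
  simp only [vanIdeal, Ideal.mem_iInf]
  refine forall_congr' (fun V => forall_congr' (fun g => ?_))
  rw [derComp_criterion]
  exact Iff.rfl

end Groth.Agent.H45.DerCompl

namespace Groth.Agent.H45.DerCompl

variable {C : Type u} [SmallCategory C] {J : GrothendieckTopology C} (O : Sheaf J CommRingCat.{u})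

lemma sect_comp {U V W : C} (h : W ⟶ V) (g : V ⟶ U) (f : O.obj.obj (op U)) :
    (O.obj.map (h ≫ g).op).hom f = (O.obj.map h.op).hom ((O.obj.map g.op).hom f) := by
  rw [op_comp, Functor.map_comp]
  rfl

lemma sect_id {V : C} (f : O.obj.obj (op V)) : (O.obj.map (𝟙 V).op).hom f = f := by
  rw [op_id, O.obj.map_id]
  rfl

variable [HasDerivedCategory.{w} (ModSite.Mod O)] (K : DerivedCategory (ModSite.Mod O))

/-- **the sheaf of ideals of the sections `f` with `T(K|_U, f) = 0`.** -/
noncomputable def vanIdealSh : DerComp.IdealSh O where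
  ideal U := vanIdeal O K U
  map_mem {U V} g {f} hf := by
    rw [mem_vanIdeal] at hf ⊢
    intro W h n
    have h1 := hf W (h ≫ g) n
    rwa [sect_comp] at h1
  glue {U f} S hS h := by
    rw [mem_vanIdeal]
    intro W p
    apply vanishing_of_cover K W _ (S.pullback p) (J.pullback_stable p hS)
    intro W' q hq n
    have h1 := (mem_vanIdeal O K W' _).1 (h (q ≫ p) hq) W' (𝟙 W') n
    rwa [sect_id, sect_comp] at h1

end Groth.Agent.H45.DerCompl
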