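import Groth.Agent.H45.DerCompl.TeleTri2
import Groth.Agent.H45.DerCompl.AwayInv
import Groth.Agent.H45.DerCompl.IdealOf
import Groth.Agent.H45.RlimModW.VanishO
import Groth.Agent.H45.RlimModW.Products
import Mathlib.Algebra.Homology.DerivedCategory.Linear

/-!
# Derived completion with respect to finitely many global sections (helper45)

On a ringed site `(C, O)` with a sheaf of ideals `I` generated by global sections `s_1, …, s_r`, the inclusion of the
derived complete objects of `D(O)` has a left adjoint.  The completion with respect to one section `s` is the cone of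
`T(K, s) ⟶ K`, `T(K, s)` the derived limit of multiplication by `s` (`TeleTri`, `TeleTri2`).
-/

set_option autoImplicit false
universe w u
open CategoryTheory CategoryTheory.Limits Opposite DerivedCategory CategoryTheory.Pretriangulated

namespace Groth.Agent.H45.DerCompl

open Groth.Agent.H31 (freeOnHomEquiv freeOnHomEquiv_apply freeOnHomEquiv_naturality)
open Groth.Agent.H45.RlimModW
open TeleTri

variable {C : Type u} [SmallCategory C] {J : GrothendieckTopology C} (O : Sheaf J CommRingCat.{u})

/-- multiplication by the component of a global section on `j_{V!}O_V` is the action of the global section. -/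
lemma mulFree_eq_smul (s : DerComp.GSec O) (V : C) :
    mulFree O V (s.1 V) = s • 𝟙 (ModSite.freeOn O V) := by
  apply (freeOnHomEquiv O V (ModSite.freeOn O V)).injective
  have h1 := freeOnHomEquiv_mulFree O V (s.1 V) _ (𝟙 (ModSite.freeOn O V))
  rw [Category.comp_id] at h1
  rw [h1, DerComp.smul_def, Category.comp_id, ← Category.id_comp (DerComp.smulEnd s _),
    freeOnHomEquiv_naturality]
  rfl

omit O in
/-- a map out of a shift vanishes if all maps into the opposite shift do. -/
lemma eq_zero_of_shiftEquiv {T : Type*} [Category T] [Preadditive T] [HasShift T ℤ]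
    {X Y : T} (m : ℤ) (g : X⟦m⟧ ⟶ Y) (h : ∀ g' : X ⟶ Y⟦-m⟧, g' = 0) : g = 0 := by
  let adj := (shiftEquiv T m).toAdjunction
  have h1 : adj.homEquiv X Y g = adj.homEquiv X Y 0 := (h _).trans (h _).symm
  exact (adj.homEquiv X Y).injective h1

variable [HasDerivedCategory.{w} (ModSite.Mod O)]

instance hasProduct_cst (K : DerivedCategory (ModSite.Mod O)) : HasProduct (cst K) :=
  hasProduct_derived_mod O _

/-- `j_{U!}O_{U,g}` in degree `0`. -/
noncomputable abbrev awayObj (U : C) (g : O.obj.obj (op U)) : DerivedCategory (ModSite.Mod O) :=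
  (DerivedCategory.singleFunctor (ModSite.Mod O) 0).obj
    ((ModSite.extZero O U).obj (DerComp.awayOver O U g))

/-- the shifts of the objects `j_{U!}O_{U,s}` for a global section `s`. -/
def Gen (s : DerComp.GSec O) : ObjectProperty (DerivedCategory (ModSite.Mod O)) :=
  fun X => ∃ (U : C) (m : ℤ), Nonempty (X ≅ (awayObj O U (s.1 U))⟦m⟧)

instance (s : DerComp.GSec O) : (Gen O s).IsStableUnderShift ℤ where
  isStableUnderShiftBy n := ⟨fun X ⟨U, m, ⟨e⟩⟩ => ⟨U, m + n,
    ⟨(shiftFunctor _ n).mapIso e ≪≫ ((shiftFunctorAdd' _ m n (m + n) rfl).app _).symm⟩⟩⟩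

lemma gen_awayObj (s : DerComp.GSec O) (U : C) : Gen O s (awayObj O U (s.1 U)) :=
  ⟨U, 0, ⟨((shiftFunctorZero _ ℤ).app _).symm⟩⟩

/-- orthogonality to `Gen s` is the vanishing condition of derived completeness for the section `s`. -/
lemma rightOrthogonal_gen_iff (s : DerComp.GSec O) (Z : DerivedCategory (ModSite.Mod O)) :
    (Gen O s).rightOrthogonal Z ↔
      ∀ (U : C) (n : ℤ), Subsingleton (awayObj O U (s.1 U) ⟶ Z⟦n⟧) := by
  constructor
  · intro hZ U n
    have h1 : (Gen O s).rightOrthogonal (Z⟦n⟧) := (Gen O s).rightOrthogonal.le_shift n Z hZ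
    exact ⟨fun a b => by rw [h1 a (gen_awayObj O s U), h1 b (gen_awayObj O s U)]⟩
  · intro h X f hX
    obtain ⟨U, m, ⟨e⟩⟩ := hX
    have h1 : e.inv ≫ f = 0 := eq_zero_of_shiftEquiv m (e.inv ≫ f) (fun g' => by
      have := h U (-m)
      exact Subsingleton.elim _ _)
    rw [← cancel_epi e.inv, h1, comp_zero]

/-- **`s` is invertible on the objects `j_{U!}O_{U,s}[m]`.** -/
lemma isIso_smul_of_gen (s : DerComp.GSec O) (X : DerivedCategory (ModSite.Mod O))
    (hX : Gen O s X) : IsIso (s • 𝟙 X) := by
  obtain ⟨U, m, ⟨e⟩⟩ := hX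
  -- in `Mod O`
  have h0 : IsIso (s • 𝟙 (cokernel (awayGen (ModSite.freeOn O U) (mulFree O U (s.1 U))))) := by
    apply isIso_of_comm
    intro n
    rw [mulFree_eq_smul, Linear.comp_smul, Linear.comp_smul, Category.comp_id, Linear.smul_comp,
      Category.id_comp]
  have h1 : IsIso (s • 𝟙 ((ModSite.extZero O U).obj (DerComp.awayOver O U (s.1 U)))) :=
    isIso_smulId_of_iso s (extZeroAwayIso O U (s.1 U)).symm
  have h2 : IsIso (s • 𝟙 (awayObj O U (s.1 U))) := by
    have : s • 𝟙 (awayObj O U (s.1 U)) = (DerivedCategory.singleFunctor (ModSite.Mod O) 0).map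
        (s • 𝟙 ((ModSite.extZero O U).obj (DerComp.awayOver O U (s.1 U)))) := by
      rw [CategoryTheory.Functor.map_smul, CategoryTheory.Functor.map_id]
    rw [this]
    infer_instance
  have h3 : IsIso (s • 𝟙 ((awayObj O U (s.1 U))⟦m⟧)) := isIso_smulId_shift s _ m
  exact isIso_smulId_of_iso s e.symm

end Groth.Agent.H45.DerCompl
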