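import Groth.Agent.H45.DerCompl.GlobalCompl

/-!
# Derived completion with respect to finitely many global sections, II (helper45)

* `mono_teleMap_of_rightOrthogonal`: if all maps `j_{U!}O_{U,s}[m] ⟶ Z` vanish then `1 - s·shift` is a monomorphism
  on `∏_ℕ Z` (its fibre has no maps from the generators `j_{V!}O_V[m]`, by the criterion `derComp_criterion`);
* `isDerComp_iff_of_isGenBy`: for `I` generated by global sections `s_i`, derived completeness is orthogonality to all
  `Gen (s_i)`;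
* `hasDerCompletion_of_isGenBy`: existence of derived completion.
-/

set_option autoImplicit false
universe w u
open CategoryTheory CategoryTheory.Limits Opposite DerivedCategory CategoryTheory.Pretriangulated

namespace Groth.Agent.H45.DerCompl

open Groth.Agent.H45.RlimModW
open TeleTri

section shift

variable {T : Type*} [Category T] [Preadditive T] [HasShift T ℤ]
  [∀ n : ℤ, (shiftFunctor T n).Additive]
  {R : Type*} [Ring R] [Linear R T] [∀ n : ℤ, (shiftFunctor T n).Linear R] (s : R)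

/-- the shift adjunction bijection `Hom(X[m], Y) ≃ Hom(X, Y[-m])`. -/
noncomputable def shE (m : ℤ) (X Y : T) : (X⟦m⟧ ⟶ Y) ≃ (X ⟶ Y⟦-m⟧) :=
  (shiftEquiv T m).toAdjunction.homEquiv X Y

omit [Preadditive T] [∀ n : ℤ, (shiftFunctor T n).Additive] in
lemma shE_apply (m : ℤ) (X Y : T) (a : X⟦m⟧ ⟶ Y) :
    shE m X Y a = (shiftFunctorCompIsoId T m (-m) (add_neg_cancel m)).inv.app X ≫ a⟦-m⟧' := rfl

lemma shE_sub_smul (m : ℤ) (X Y : T) (a b : X⟦m⟧ ⟶ Y) :
    shE m X Y (a - s • b) = shE m X Y a - s • shE m X Y b := by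
  rw [shE_apply, shE_apply, shE_apply, Functor.map_sub, CategoryTheory.Functor.map_smul,
    Preadditive.comp_sub, Linear.comp_smul]

omit [∀ n : ℤ, (shiftFunctor T n).Additive] in
/-- a map into a shift vanishes if all maps out of the opposite shift do. -/
lemma eq_zero_of_shiftEquiv_symm {X Y : T} (q : ℤ) (g : X ⟶ Y⟦q⟧)
    (h : ∀ g₀ : X⟦-q⟧ ⟶ Y, g₀ = 0) : g = 0 := by
  let adj := (shiftEquiv T q).symm.toAdjunction
  have h1 : (adj.homEquiv X Y).symm g = (adj.homEquiv X Y).symm 0 := (h _).trans (h _).symm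
  exact (adj.homEquiv X Y).symm.injective h1

end shift

variable {C : Type u} [SmallCategory C] {J : GrothendieckTopology C} (O : Sheaf J CommRingCat.{u})
  [HasDerivedCategory.{w} (ModSite.Mod O)]

/-- `j_{V!}O_V` in degree `0`. -/
noncomputable abbrev freeObj (V : C) : DerivedCategory (ModSite.Mod O) :=
  (DerivedCategory.singleFunctor (ModSite.Mod O) 0).obj (ModSite.freeOn O V)

variable (s : DerComp.GSec O) (Z : DerivedCategory (ModSite.Mod O))

lemma teleOp_eq (V : C) (n : ℤ) (y : ℕ → (freeObj O V ⟶ Z⟦n⟧)) (i : ℕ) :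
    teleOp (ModSite.freeOn O V) (mulFree O V (s.1 V)) Z n y i = y i - s • y (i + 1) := by
  dsimp only [teleOp]
  rw [mulFree_eq_smul, CategoryTheory.Functor.map_smul, CategoryTheory.Functor.map_id, smulId_comp]

/-- **the criterion, transported to maps from `j_{V!}O_V[m]` to the self-product.** -/
theorem bijective_comp_teleMap (V : C) (m : ℤ)
    (hb : Function.Bijective (teleOp (ModSite.freeOn O V) (mulFree O V (s.1 V)) Z (-m))) :
    Function.Bijective (fun x : (freeObj O V)⟦m⟧ ⟶ ∏ᶜ (cst Z) => x ≫ teleMap s Z) := by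
  let Φ : ((freeObj O V)⟦m⟧ ⟶ ∏ᶜ (cst Z)) → (ℕ → (freeObj O V ⟶ Z⟦-m⟧)) :=
    fun x i => shE m (freeObj O V) Z (x ≫ Pi.π (cst Z) i)
  have hΦ : Function.Bijective Φ := by
    constructor
    · intro x x' h
      apply Pi.hom_ext
      intro i
      exact (shE m (freeObj O V) Z).injective (congrFun h i)
    · intro y
      refine ⟨Pi.lift (fun i => (shE m (freeObj O V) Z).symm (y i)), ?_⟩
      funext i
      change shE m (freeObj O V) Z (Pi.lift (fun i => (shE m (freeObj O V) Z).symm (y i)) ≫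
        Pi.π (cst Z) i) = y i
      rw [Pi.lift_π, Equiv.apply_symm_apply]
  have hcomm : Φ ∘ (fun x : (freeObj O V)⟦m⟧ ⟶ ∏ᶜ (cst Z) => x ≫ teleMap s Z) =
      (teleOp (ModSite.freeOn O V) (mulFree O V (s.1 V)) Z (-m)) ∘ Φ := by
    funext x i
    change shE m (freeObj O V) Z ((x ≫ teleMap s Z) ≫ Pi.π (cst Z) i) =
      teleOp (ModSite.freeOn O V) (mulFree O V (s.1 V)) Z (-m) (Φ x) i
    rw [teleOp_eq, Category.assoc, comp_teleMap_π, shE_sub_smul]
  have h3 : Function.Bijective (Φ ∘ (fun x : (freeObj O V)⟦m⟧ ⟶ ∏ᶜ (cst Z) => x ≫ teleMap s Z)) := by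
    rw [hcomm]
    exact hb.comp hΦ
  exact (Function.Bijective.of_comp_iff' hΦ _).1 h3

/-- bijectivity of `1 - s·shift` on maps to the self-product is invariant under isomorphisms of the source. -/
lemma bijective_comp_teleMap_of_iso {M M' : DerivedCategory (ModSite.Mod O)} (e : M' ≅ M)
    (h : Function.Bijective (fun x : M ⟶ ∏ᶜ (cst Z) => x ≫ teleMap s Z)) :
    Function.Bijective (fun x : M' ⟶ ∏ᶜ (cst Z) => x ≫ teleMap s Z) := by
  have hpre : Function.Bijective (fun x : M ⟶ ∏ᶜ (cst Z) => e.hom ≫ x) :=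
    ⟨fun a b hab => (cancel_epi e.hom).1 hab, fun y => ⟨e.inv ≫ y, by simp⟩⟩
  have hcomm : (fun x : M' ⟶ ∏ᶜ (cst Z) => x ≫ teleMap s Z) ∘
      (fun x : M ⟶ ∏ᶜ (cst Z) => e.hom ≫ x) =
      (fun x : M ⟶ ∏ᶜ (cst Z) => e.hom ≫ x) ∘ (fun x : M ⟶ ∏ᶜ (cst Z) => x ≫ teleMap s Z) := by
    funext x
    simp only [Function.comp, Category.assoc]
  have h3 : Function.Bijective ((fun x : M' ⟶ ∏ᶜ (cst Z) => x ≫ teleMap s Z) ∘
      (fun x : M ⟶ ∏ᶜ (cst Z) => e.hom ≫ x)) := by
    rw [hcomm]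
    exact hpre.comp h
  exact (Function.Bijective.of_comp_iff _ hpre).1 h3

omit s in
lemma isZero_of_forall_freeObj (N : DerivedCategory (ModSite.Mod O))
    (h : ∀ (V : C) (m : ℤ) (f : (freeObj O V)⟦m⟧ ⟶ N), f = 0) : IsZero N := by
  have hq : ∀ q : ℤ, IsZero ((DerivedCategory.homologyFunctor (ModSite.Mod O) q).obj N) := by
    intro q
    refine isZero_homology_of_subsingleton_HDUO O N q Set.univ (fun U => ?_) (fun V _ => ?_)
    · refine ⟨PUnit, fun _ => U, fun _ => 𝟙 U, ?_, fun _ => Set.mem_univ _⟩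
      refine J.superset_covering ?_ (J.top_mem U)
      intro Y f _
      exact (Sieve.mem_ofArrows_iff _ _ _).2 ⟨PUnit.unit, f, by simp⟩
    · refine ⟨fun a b => ?_⟩
      have key : ∀ g : freeObj O V ⟶ N⟦q⟧, g = 0 := fun g =>
        eq_zero_of_shiftEquiv_symm q g (fun g₀ => h V (-q) g₀)
      exact (key a).trans (key b).symm
  rw [IsZero.iff_id_eq_zero]
  have : IsIso (0 : N ⟶ N) := by
    rw [DerivedCategory.isIso_iff]
    intro n
    exact ⟨0, (hq n).eq_of_src _ _, (hq n).eq_of_src _ _⟩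
  rw [← cancel_mono (0 : N ⟶ N), comp_zero, comp_zero]

/-- **if all maps `j_{U!}O_{U,s}[m] ⟶ Z` vanish then `1 - s·shift` is a monomorphism on `∏_ℕ Z`.** -/
theorem mono_teleMap_of_rightOrthogonal (hZ : (Gen O s).rightOrthogonal Z) : Mono (teleMap s Z) := by
  have hcrit : ∀ (V : C) (n : ℤ),
      Function.Bijective (teleOp (ModSite.freeOn O V) (mulFree O V (s.1 V)) Z n) := by
    intro V
    exact (derComp_criterion O V (s.1 V) Z).1 (fun n => (rightOrthogonal_gen_iff O s Z).1 hZ V n)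
  obtain ⟨H⟩ := nonempty_holimTri s Z
  have hL : IsZero H.L := by
    apply isZero_of_forall_freeObj
    intro V m f
    have hb0 := bijective_comp_teleMap O s Z V m (hcrit V (-m))
    have hb1 : Function.Bijective
        (fun x : ((freeObj O V)⟦m⟧)⟦(1 : ℤ)⟧ ⟶ ∏ᶜ (cst Z) => x ≫ teleMap s Z) :=
      bijective_comp_teleMap_of_iso O s Z
        ((shiftFunctorAdd' (DerivedCategory (ModSite.Mod O)) m 1 (m + 1) rfl).app _).symm
        (bijective_comp_teleMap O s Z V (m + 1) (hcrit V (-(m + 1))))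
    have h1 : f ≫ H.a = 0 := hb0.1 (by
      change (f ≫ H.a) ≫ teleMap s Z = 0 ≫ teleMap s Z
      rw [Category.assoc, H.a_tele, comp_zero, zero_comp])
    exact H.eq_zero_of_comp_a (fun y => hb1.2 y) f h1
  have h0 : (Triangle.mk H.a (teleMap s Z) H.c).mor₁ = 0 := hL.eq_of_src _ _
  exact (Triangle.mor₁_eq_zero_iff_mono₂ _ H.dist).1 h0

end Groth.Agent.H45.DerCompl
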