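import Groth.Agent.H45.DerCompl.GlobalCompl2
import Mathlib.CategoryTheory.Adjunction.Comma

/-!
# Derived completion with respect to finitely many global sections, III (helper45)

For `I` generated by global sections `s_1, …, s_r`: derived completeness w.r.t. `I` is orthogonality to the objects
`j_{U!}O_{U,s_i}[m]`, and the inclusion of derived complete objects has a left adjoint
(`hasDerCompletion_of_isGenBy`).  Stated for the standard model of the derived category (as the prelude's `IsDerComp`).
-/

set_option autoImplicit false
universe u
open CategoryTheory CategoryTheory.Limits Opposite DerivedCategory CategoryTheory.Pretriangulated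
attribute [local instance] HasDerivedCategory.standard

namespace Groth.Agent.H45.DerCompl

open TeleTri

variable {C : Type u} [SmallCategory C] {J : GrothendieckTopology C} (O : Sheaf J CommRingCat.{u})

/-- derived completeness w.r.t. an ideal generated by global sections. -/
theorem isDerComp_iff_of_isGenBy {r : ℕ} (s : Fin r → DerComp.GSec O) (I : DerComp.IdealSh O)
    (hI : I.IsGenBy s) (Z : DerivedCategory (ModSite.Mod O)) :
    DerComp.IsDerComp O I Z ↔ ∀ i, (Gen O (s i)).rightOrthogonal Z := by
  constructor
  · intro hZ i
    rw [rightOrthogonal_gen_iff]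
    intro U n
    exact hZ U _ (hI.1 i U) n
  · intro hZ
    have hcont : (vanIdealSh O Z).Contains s := by
      intro i U
      change (s i).1 U ∈ vanIdeal O Z U
      rw [mem_vanIdeal]
      intro V g n
      rw [DerComp.GSec.compat (s i) g]
      exact (rightOrthogonal_gen_iff O (s i) Z).1 (hZ i) V n
    have hle := hI.2 (vanIdealSh O Z) hcont
    intro U f hf n
    have h1 : f ∈ vanIdeal O Z U := hle U hf
    rw [mem_vanIdeal] at h1
    have h2 := h1 U (𝟙 U) n
    rwa [sect_id] at h2

/-- **existence of derived completion for an ideal generated by finitely many global sections.** -/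
theorem hasDerCompletion_of_isGenBy {r : ℕ} (s : Fin r → DerComp.GSec O) (I : DerComp.IdealSh O)
    (hI : I.IsGenBy s) : DerComp.HasDerCompletion O I := by
  have key : ∀ K : DerivedCategory (ModSite.Mod O), ∃ (K' : DerivedCategory (ModSite.Mod O))
      (b : K ⟶ K'), DerComp.IsDerComp O I K' ∧
        ∀ Z, DerComp.IsDerComp O I Z → Function.Bijective (fun h : K' ⟶ Z => b ≫ h) := by
    intro K
    obtain ⟨K', b, h1, h2, -⟩ := exists_completion_fin r (fun i => Gen O (s i))
      (fun i => inferInstance) s (fun i X hX => isIso_smul_of_gen O (s i) X hX)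
      (fun i Z hZ => mono_teleMap_of_rightOrthogonal O (s i) Z hZ) K
    exact ⟨K', b, (isDerComp_iff_of_isGenBy O s I hI K').2 h1,
      fun Z hZ => h2 Z ((isDerComp_iff_of_isGenBy O s I hI Z).1 hZ)⟩
  let ι := ObjectProperty.ι (DerComp.IsDerComp O I)
  haveI : ∀ K, HasInitial (StructuredArrow K ι) := by
    intro K
    obtain ⟨K', b, hK', hb⟩ := key K
    let Y₀ : (DerComp.IsDerComp O I).FullSubcategory := ⟨K', hK'⟩
    let b' : K ⟶ ι.obj Y₀ := b
    let X₀ : StructuredArrow K ι := StructuredArrow.mk b'
    have hex : ∀ Y : StructuredArrow K ι, ∃ h₀ : ι.obj Y₀ ⟶ ι.obj Y.right, b' ≫ h₀ = Y.hom :=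
      fun Y => (hb Y.right.obj Y.right.property).2 Y.hom
    refine (IsInitial.ofUniqueHom (X := X₀)
      (fun Y => StructuredArrow.homMk (ι.preimage (Classical.choose (hex Y))) ?_) ?_).hasInitial
    · change b' ≫ ι.map (ι.preimage (Classical.choose (hex Y))) = Y.hom
      rw [Functor.map_preimage]
      exact Classical.choose_spec (hex Y)
    · intro Y m
      apply StructuredArrow.ext
      apply ι.map_injective
      change ι.map m.right = ι.map (ι.preimage (Classical.choose (hex Y)))
      rw [Functor.map_preimage]
      apply (hb Y.right.obj Y.right.property).1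
      change b' ≫ ι.map m.right = b' ≫ Classical.choose (hex Y)
      rw [Classical.choose_spec (hex Y)]
      exact StructuredArrow.w m
  exact isRightAdjointOfStructuredArrowInitials ι

end Groth.Agent.H45.DerCompl
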