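import Groth.Agent.H45.DerCompl.TeleProd
import Groth.Agent.H45.PushLocal.SectHom
import Groth.Agent.H45.PushLocal.ClsOLocal

/-!
# Locality of the telescope conditions for a K-injective complex and a global section (helper45)

On a ringed site with a global section `s` of the structure sheaf and a K-injective complex `G`: if `TeleInj` and
`TeleSurj` hold for `(G, Y, s_Y)` in all degrees over all members `Y` of a cofinal family `B` of objects, they hold
over every object.
-/

set_option autoImplicit false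
universe u
open CategoryTheory CategoryTheory.Limits Opposite DerivedCategory

namespace Groth.Agent.H45.DerCompl

open Groth.Agent.H45.PushLocal Groth.Agent.H45.RlimModW

variable {C : Type u} [SmallCategory C] {J : GrothendieckTopology C} {O : Sheaf J CommRingCat.{u}}

theorem tele_of_basis (s : DerComp.GSec O) (G : CochainComplex (ModSite.Mod O) ℤ) [G.IsKInjective]
    (B : Set C)
    (hB : ∀ U : C, ∃ (ι : Type u) (Y : ι → C) (g : ∀ i, Y i ⟶ U),
      Sieve.ofArrows Y g ∈ J U ∧ ∀ i, Y i ∈ B)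
    (h : ∀ Y ∈ B, ∀ n : ℤ, TeleInj G Y (s.1 Y) n ∧ TeleSurj G Y (s.1 Y) n) (Y : C) (n : ℤ) :
    TeleInj G Y (s.1 Y) n ∧ TeleSurj G Y (s.1 Y) n := by
  letI := HasDerivedCategory.standard (ModSite.Mod O)
  let F : ℕ → CochainComplex (ModSite.Mod O) ℤ := fun _ => G
  let c : Fan F := Fan.mk (∏ᶜ F) (fun i => Pi.π F i)
  have hc : IsLimit c := productIsProduct F
  let P : CochainComplex (ModSite.Mod O) ℤ := ∏ᶜ F
  let p : ∀ i : ℕ, P ⟶ G := fun i => Pi.π F i
  have hp : IsSectProd p := isSectProd_of_isLimit c hc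
  let φ : P ⟶ P := Pi.lift (fun i => p i - p (i + 1) ≫ mulCx s G)
  have hφ : ∀ i, φ ≫ p i = p i - p (i + 1) ≫ mulCx s G := fun i => Pi.lift_π _ i
  have hqi : QuasiIso φ := quasiIso_of_sections φ B hB
    (fun k Y hY => (sectInj_iff_teleInj s p hp φ hφ k Y).2 (h Y hY k).1)
    (fun k Y hY => (sectSurj_iff_teleSurj s p hp φ hφ k Y).2 (h Y hY k).2)
  have hPK : P.IsKInjective :=
    Groth.Agent.H6.DerivedProd.isKInjective_of_isLimit c hc (fun _ => inferInstance)
  have hPL : IsPLocal O P := isPLocal_of_isKInjective P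
  have hiso : IsIso ((Q : _ ⥤ DerivedCategory (ModSite.Mod O)).map φ) :=
    (DerivedCategory.isIso_Q_map_iff_quasiIso (C := ModSite.Mod O) φ).2 hqi
  have hbij : Function.Bijective (fun x : HDUO O (Q.obj P) n Y => x ≫ (Q.map φ)⟦n⟧') := by
    have : IsIso ((Q.map φ)⟦n⟧') := inferInstance
    constructor
    · intro x x' hx
      exact (cancel_mono ((Q.map φ)⟦n⟧')).1 hx
    · intro y
      exact ⟨y ≫ inv ((Q.map φ)⟦n⟧'), by simp⟩
  exact ⟨(sectInj_iff_teleInj s p hp φ hφ n Y).1
      ((injective_postcomp_iff_sectInj φ hPL hPL n Y).1 hbij.1),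
    (sectSurj_iff_teleSurj s p hp φ hφ n Y).1
      ((surjective_postcomp_iff_sectSurj φ hPL hPL n Y).1 hbij.2)⟩

end Groth.Agent.H45.DerCompl
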