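import Mathlib.Algebra.Homology.ShortComplex.PreservesHomology
import Mathlib.Algebra.Homology.QuasiIso
import Mathlib.Algebra.Homology.Additive
import Mathlib.CategoryTheory.Abelian.Basic

/-!
# A natural transformation `𝟭 ⟶ G` to an exact functor, on complexes (helper45)

If `G` is exact and `τ : 𝟭 ⟶ G` is an isomorphism on all homology objects of the complex `Y` then
`τ_Y : Y ⟶ G(Y)` (termwise) is a quasi-isomorphism.
-/

set_option autoImplicit false
open CategoryTheory CategoryTheory.Limits

namespace Groth.Agent.H45.DerCompl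

variable {A : Type*} [Category A] [Abelian A] {ι : Type*} (c : ComplexShape ι)
  (G : A ⥤ A) [G.Additive] (τ : 𝟭 A ⟶ G)

/-- `τ` termwise on a complex. -/
def natTransCx (Y : HomologicalComplex A c) : Y ⟶ (G.mapHomologicalComplex c).obj Y where
  f n := τ.app (Y.X n)
  comm' i j _ := (τ.naturality (Y.d i j)).symm

@[simp] lemma natTransCx_f (Y : HomologicalComplex A c) (n : ι) :
    (natTransCx c G τ Y).f n = τ.app (Y.X n) := rfl

lemma natTransCx_naturality {Y Y' : HomologicalComplex A c} (f : Y ⟶ Y') :
    f ≫ natTransCx c G τ Y' = natTransCx c G τ Y ≫ (G.mapHomologicalComplex c).map f := by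
  ext n
  exact τ.naturality (f.f n)

variable [PreservesFiniteLimits G] [PreservesFiniteColimits G]

theorem quasiIso_natTransCx (Y : HomologicalComplex A c)
    (h : ∀ n, IsIso (τ.app (Y.homology n))) : QuasiIso (natTransCx c G τ Y) := by
  refine ⟨fun n => ?_⟩
  rw [quasiIsoAt_iff, ShortComplex.quasiIso_iff]
  have h1 : IsIso (ShortComplex.homologyMap ((Y.sc n).mapNatTrans τ)) := by
    rw [ShortComplex.homologyMap_mapNatTrans]
    haveI : IsIso (τ.app (Y.sc n).homology) := h n
    infer_instance
  exact h1

end Groth.Agent.H45.DerCompl
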