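import Groth.Prelude.Def_DerComp
import Groth.Prelude.Def_ModSite2

/-!
# The localisation morphism `(C/U, O_U) → (C, O)` as a morphism of ringed sites (helper45)

On a site with binary products, `V ↦ (U × V → U)` is a continuous, representably flat functor, and restriction along the
second projection is a map of sheaves of rings; this is the morphism of ringed sites `j_U`, whose direct image is right
adjoint to restriction `F ↦ F|_U` (Mathlib's `SheafOfModules.overPushforwardOverAdj`).
-/

set_option autoImplicit false
universe u
open CategoryTheory CategoryTheory.Limits Opposite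

namespace Groth.Agent.H45.DerCompl

variable {C : Type u} [SmallCategory C] {J : GrothendieckTopology C} (O : Sheaf J CommRingCat.{u}) (U : C)
  [HasBinaryProducts C]

/-- the ring map `O ⟶ j_* O_U`: restriction along `U × V → V`. -/
noncomputable def locSharp :
    O ⟶ ((Over.star U).sheafPushforwardContinuous CommRingCat.{u} J (J.over U)).obj (O.over U) :=
  ⟨{ app := fun V => O.obj.map (prod.snd : U ⨯ V.unop ⟶ V.unop).op
     naturality := fun V W f => by
       change O.obj.map f ≫ O.obj.map prod.snd.op =
        O.obj.map prod.snd.op ≫ O.obj.map (prod.map (𝟙 U) f.unop).op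
       rw [← Functor.map_comp, ← Functor.map_comp, ← op_comp]
       congr 1
       have : (prod.map (𝟙 U) f.unop ≫ prod.snd) = prod.snd ≫ f.unop := by simp
       rw [this]
       rfl }⟩

/-- the localisation morphism `j_U : (C/U, O_U) → (C, O)`. -/
noncomputable def locMor : ModSite.RMor (O.over U) O :=
  ModSite.RMor.ofFlat (Over.star U) (locSharp O U)

lemma locMor_fn : (locMor O U).fn = Over.star U := rfl

lemma locMor_sharpR :
    (locMor O U).sharpR = SheafOfModules.pushforwardOver (R := ModSite.ringSh O) U := rfl

set_option backward.isDefEq.respectTransparency.types false in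
/-- restriction to `C/U` is left adjoint to the direct image of the localisation morphism. -/
noncomputable def restrPushAdj : ModSite.restr O U ⊣ (locMor O U).push :=
  SheafOfModules.overPushforwardOverAdj.{u} (R := ModSite.ringSh O) U

/-- the localisation morphism sends `I` into `I|_U`. -/
lemma rMapsIdealInto_locMor (I : DerComp.IdealSh O) :
    DerComp.RMapsIdealInto (locMor O U) I (I.over U) := by
  intro V g hg
  exact I.map_mem (prod.snd : U ⨯ V ⟶ V) hg

end Groth.Agent.H45.DerCompl
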