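import Groth.Agent.H45.DerCompl.SiteCrit
import Groth.Agent.H45.RlimModW.ClassO

/-!
# Multiplication by a section on `j_{V!}O_V` and on classes of cycle sections (helper45)
-/

set_option autoImplicit false
universe w u
open CategoryTheory CategoryTheory.Limits Opposite DerivedCategory

namespace Groth.Agent.H45.DerCompl

open Groth.Agent.H31 (freeOnHomEquiv freeOnHomEquiv_apply)
open Groth.Agent.H45.RlimModW

variable {C : Type u} [SmallCategory C] {J : GrothendieckTopology C} (O : Sheaf J CommRingCat.{u})

/-- a section of `O` over `V`, typed as a scalar of the modules of sections over `V`. -/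
abbrev scal (V : C) (g : O.obj.obj (op V)) : (ModSite.ringSh O).obj.obj (op V) := g

lemma freeOnHomEquiv_mulFree (V : C) (g : O.obj.obj (op V)) (T : ModSite.Mod O)
    (φ : ModSite.freeOn O V ⟶ T) :
    freeOnHomEquiv O V T (mulFree O V g ≫ φ) = scal O V g • freeOnHomEquiv O V T φ := by
  rw [freeOnHomEquiv_apply, freeOnHomEquiv_apply]
  dsimp only [mulFree]
  rw [Adjunction.homEquiv_naturality_left]
  let ψ := (ModSite.extZeroAdj O V).homEquiv _ T φ
  let s := DerComp.GSec.ofSect O V g
  change (ψ.val.app (op (Over.mk (𝟙 V)))).hom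
      (((DerComp.smulEnd s (ModSite.unit (O.over V))).val.app (op (Over.mk (𝟙 V)))).hom
        (1 : (ModSite.ringSh (O.over V)).obj.obj (op (Over.mk (𝟙 V))))) = _
  rw [DerComp.smulEnd_apply, (ψ.val.app (op (Over.mk (𝟙 V)))).hom.map_smul]
  have hs : DerComp.GSec.val' s (op (Over.mk (𝟙 V))) = g := by
    change (O.obj.map (𝟙 V).op).hom g = g
    rw [op_id, O.obj.map_id]
    rfl
  rw [hs]
  rfl

variable {O}
variable [HasDerivedCategory.{w} (ModSite.Mod O)]

lemma homOf_smul (L : CochainComplex (ModSite.Mod O) ℤ) (q : ℤ) (V : C) (g : O.obj.obj (op V))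
    (x : (L.X q).val.obj (op V)) :
    homOf L q V (scal O V g • x) = mulFree O V g ≫ homOf L q V x := by
  apply (freeOnHomEquiv O V (L.X q)).injective
  rw [freeOnHomEquiv_mulFree, freeOnHomEquiv_homOf, freeOnHomEquiv_homOf]

lemma smul_cycle (L : CochainComplex (ModSite.Mod O) ℤ) (q q' : ℤ) (V : C) (g : O.obj.obj (op V))
    (x : (L.X q).val.obj (op V)) (hx : (L.d q q').val.app (op V) x = 0) :
    (L.d q q').val.app (op V) (scal O V g • x) = 0 := by
  have h1 : (L.d q q').val.app (op V) (scal O V g • x) =
      scal O V g • (L.d q q').val.app (op V) x :=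
    ((L.d q q').val.app (op V)).hom.map_smul _ _
  rw [h1, hx, smul_zero]

/-- **the class of `g • x` is the class of `x` precomposed with multiplication by `g`.** -/
lemma clsO_smul (L : CochainComplex (ModSite.Mod O) ℤ) (q : ℤ) (V : C) (g : O.obj.obj (op V))
    (q' : ℤ) (hq' : q + 1 = q') (x : (L.X q).val.obj (op V))
    (hx : (L.d q q').val.app (op V) x = 0) :
    clsO L q V q' hq' (scal O V g • x) (smul_cycle L q q' V g x hx) =
      (DerivedCategory.singleFunctor (ModSite.Mod O) 0).map (mulFree O V g) ≫
        clsO L q V q' hq' x hx := by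
  dsimp only [clsO]
  refine (Groth.Agent.H30.KInjCls.cls_congr _ hq' (homOf_smul L q V g x) _ (by
    rw [Category.assoc, homOf_comp_d L q V q' x hx, comp_zero])).trans ?_
  exact Groth.Agent.H30.KInjCls.cls_precomp q' hq' (mulFree O V g) (homOf L q V x)
    (homOf_comp_d L q V q' x hx)

end Groth.Agent.H45.DerCompl
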