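import Groth.Agent.H45.DerCompl.SectCrit
import Groth.Agent.H45.PushLocal.TransferRF

/-!
# `Rf_*` preserves the vanishing condition of derived completeness (helper45)

For a morphism of ringed sites `f` with underlying functor `u`, `V` an object of the target, `g ∈ O_D(V)` and
`M ∈ D(O_C)`: all maps `j_{V!}O_{V,g}[0] ⟶ (Rf_*M)⟦n⟧` vanish iff all maps `j_{uV!}O_{uV,f♯g}[0] ⟶ M⟦n⟧` vanish.
-/

set_option autoImplicit false
universe w w' u
open CategoryTheory CategoryTheory.Limits Opposite DerivedCategory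

namespace Groth.Agent.H45.DerCompl

open Groth.Agent.H45.RlimModW Groth.Agent.H45.PushLocal
open Groth.Agent.H5.KInjDeriv Groth.Agent.H33.DerComp

section congr

variable {C : Type u} [SmallCategory C] {J : GrothendieckTopology C} {O : Sheaf J CommRingCat.{u}}
  [HasDerivedCategory.{w} (ModSite.Mod O)]

/-- the telescope operator is compatible with isomorphisms of the target. -/
lemma bijective_teleOp_congr (V : C) (g : O.obj.obj (op V)) {X X' : DerivedCategory (ModSite.Mod O)}
    (a : X ≅ X') (n : ℤ) :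
    Function.Bijective (teleOp (ModSite.freeOn O V) (mulFree O V g) X n) ↔
      Function.Bijective (teleOp (ModSite.freeOn O V) (mulFree O V g) X' n) := by
  let Z := (DerivedCategory.singleFunctor (ModSite.Mod O) 0).obj (ModSite.freeOn O V)
  let E : (ℕ → (Z ⟶ X⟦n⟧)) ≃ (ℕ → (Z ⟶ X'⟦n⟧)) :=
    Equiv.piCongrRight (fun _ => postcompShiftEquiv (Z := Z) a n)
  have hsq : (teleOp (ModSite.freeOn O V) (mulFree O V g) X' n) ∘ E =
      E ∘ (teleOp (ModSite.freeOn O V) (mulFree O V g) X n) := by
    funext x i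
    change x i ≫ a.hom⟦n⟧' - _ ≫ (x (i + 1) ≫ a.hom⟦n⟧') = (x i - _ ≫ x (i + 1)) ≫ a.hom⟦n⟧'
    rw [Preadditive.sub_comp, Category.assoc]
  constructor
  · intro h
    have h1 : Function.Bijective ((teleOp (ModSite.freeOn O V) (mulFree O V g) X' n) ∘ E) := by
      rw [hsq]; exact E.bijective.comp h
    exact (Function.Bijective.of_comp_iff _ E.bijective).1 h1
  · intro h
    have h1 : Function.Bijective (E ∘ (teleOp (ModSite.freeOn O V) (mulFree O V g) X n)) := by
      rw [← hsq]; exact h.comp E.bijective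
    exact (Function.Bijective.of_comp_iff' E.bijective _).1 h1

end congr

variable {C : Type u} [SmallCategory C] {J : GrothendieckTopology C} {O_C : Sheaf J CommRingCat.{u}}
  {D : Type u} [SmallCategory D] {K : GrothendieckTopology D} {O_D : Sheaf K CommRingCat.{u}}
  (f : ModSite.RMor O_C O_D)

/-- the image of a section of `O_D` over `V` under the structure map of `f`. -/
abbrev sharpSect (V : D) (g : O_D.obj.obj (op V)) : O_C.obj.obj (op (f.fn.obj V)) :=
  (f.sharp.hom.app (op V)).hom g

lemma teleInj_push_iff (I : CochainComplex (ModSite.Mod O_C) ℤ) (V : D) (g : O_D.obj.obj (op V))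
    (n : ℤ) :
    TeleInj ((f.push.mapHomologicalComplex (ComplexShape.up ℤ)).obj I) V g n ↔
      TeleInj I (f.fn.obj V) (sharpSect f V g) n :=
  Iff.rfl

lemma teleSurj_push_iff (I : CochainComplex (ModSite.Mod O_C) ℤ) (V : D) (g : O_D.obj.obj (op V))
    (n : ℤ) :
    TeleSurj ((f.push.mapHomologicalComplex (ComplexShape.up ℤ)).obj I) V g n ↔
      TeleSurj I (f.fn.obj V) (sharpSect f V g) n :=
  Iff.rfl

variable [HasDerivedCategory.{w} (ModSite.Mod O_C)] [HasDerivedCategory.{w'} (ModSite.Mod O_D)]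
  [(pushKh' f).HasRightDerivedFunctor
    (HomotopyCategory.quasiIso (ModSite.Mod O_C) (ComplexShape.up ℤ))]

/-- **transfer of the vanishing condition along `Rf_*`.** -/
theorem subsingleton_away_RF_iff (M : DerivedCategory (ModSite.Mod O_C)) (V : D)
    (g : O_D.obj.obj (op V)) :
    (∀ n : ℤ, Subsingleton ((DerivedCategory.singleFunctor (ModSite.Mod O_D) 0).obj
        ((ModSite.extZero O_D V).obj (DerComp.awayOver O_D V g)) ⟶
          ((RF (pushKh' f)).obj M)⟦n⟧)) ↔
      ∀ n : ℤ, Subsingleton ((DerivedCategory.singleFunctor (ModSite.Mod O_C) 0).obj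
        ((ModSite.extZero O_C (f.fn.obj V)).obj
          (DerComp.awayOver O_C (f.fn.obj V) (sharpSect f V g))) ⟶ M⟦n⟧) := by
  obtain ⟨I, -, hI, -, -, e, -, a, -, -, -⟩ := exists_model f (𝟙 M)
  rw [derComp_criterion, derComp_criterion]
  refine forall_congr' (fun n => ?_)
  rw [bijective_teleOp_congr V g a n, bijective_teleOp_congr (f.fn.obj V) (sharpSect f V g) e n,
    bijective_teleOp_iff _ (isPLocal_push f I) V g n,
    bijective_teleOp_iff _ (isPLocal_of_isKInjective I) (f.fn.obj V) (sharpSect f V g) n,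
    teleInj_push_iff, teleSurj_push_iff]

end Groth.Agent.H45.DerCompl
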