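import Groth.Agent.H45.KFlat.Single
import Groth.Prelude.Def_KFlatSite

/-!
# Tensoring with a complex concentrated in degree `0` is termwise tensoring (helper45)

For a complex `E` with `E.X q = 0` for `q ≠ 0`, `tensorSingleIso Y E : (- ⊗ E⁰)(Y) ≅ Tot(Y ⊗ E)`, naturally in `Y`.
-/

set_option autoImplicit false
universe u
open CategoryTheory CategoryTheory.Limits HomologicalComplex

namespace Groth.Agent.H45.DerCompl

variable {C : Type u} [SmallCategory C] {J : GrothendieckTopology C} {O : Sheaf J CommRingCat.{u}}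

/-- termwise tensoring with the degree `0` term of `E`. -/
noncomputable abbrev termTensor (E : CochainComplex (ModSite.Mod O) ℤ) :
    CochainComplex (ModSite.Mod O) ℤ ⥤ CochainComplex (ModSite.Mod O) ℤ :=
  ((ModSite.tensorBi O).flip.obj (E.X 0)).mapHomologicalComplex (ComplexShape.up ℤ)

variable (Y : CochainComplex (ModSite.Mod O) ℤ) (E : CochainComplex (ModSite.Mod O) ℤ)
  (hE : ∀ q, q ≠ 0 → IsZero (E.X q))

/-- the comparison `(Y ⊗ E⁰) ⟶ Tot(Y ⊗ E)`. -/
noncomputable def tensorSingleHom : (termTensor E).obj Y ⟶ ((ModSite.tensorCx O).obj Y).obj E where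
  f n := ιMapBifunctor Y E (ModSite.tensorBi O) (ComplexShape.up ℤ) n 0 n (add_zero n)
  comm' n n' h := by
    have h' : n + 1 = n' := h
    exact Groth.Agent.H45.ι_comp_d_of_isZero Y E 0 hE n n' n n' h' (add_zero n) (add_zero n')

instance (n : ℤ) : IsIso ((tensorSingleHom Y E hE).f n) :=
  Groth.Agent.H45.isIso_ιMapBifunctor_of_isZero Y E 0 hE n n (add_zero n)

instance : IsIso (tensorSingleHom Y E hE) := HomologicalComplex.Hom.isIso_of_components _

variable {Y} in
lemma tensorSingleHom_naturality {Y' : CochainComplex (ModSite.Mod O) ℤ} (f : Y ⟶ Y') :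
    (termTensor E).map f ≫ tensorSingleHom Y' E hE =
      tensorSingleHom Y E hE ≫ ((ModSite.tensorCx O).map f).app E := by
  ext n : 1
  change ((ModSite.tensorBi O).map (f.f n)).app (E.X 0) ≫
      ιMapBifunctor Y' E (ModSite.tensorBi O) (ComplexShape.up ℤ) n 0 n (add_zero n) =
    ιMapBifunctor Y E (ModSite.tensorBi O) (ComplexShape.up ℤ) n 0 n (add_zero n) ≫
      (mapBifunctorMap f (𝟙 E) (ModSite.tensorBi O) (ComplexShape.up ℤ)).f n
  rw [ι_mapBifunctorMap]
  simp only [id_f, CategoryTheory.Functor.map_id, Category.id_comp]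

end Groth.Agent.H45.DerCompl
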