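import Groth.Agent.H45.DerCompl.AwayFlat
import Groth.Agent.H45.DerCompl.TensorSingle
import Groth.Agent.H45.DerCompl.HomologyNat
import Groth.Agent.H45.DerCompl.Coreflection
import Groth.Agent.H45.DerCompl.GlobalCompl
import Groth.Agent.H45.LDer.LTensorComp
import Mathlib.Algebra.Homology.ShortComplex.Linear

/-!
# `RHom_O(O_s, K)` is the derived limit `T(K, s)` (helper45)
-/

set_option autoImplicit false
universe u
open CategoryTheory CategoryTheory.Limits Opposite MonoidalCategory HomologicalComplex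
  CategoryTheory.Pretriangulated

attribute [local instance] HasDerivedCategory.standard

namespace Groth.Agent.H45.DerCompl

open DerComp TeleTri Groth.Agent.H45.LDer

variable {C : Type u} [SmallCategory C] {J : GrothendieckTopology C} (O : Sheaf J CommRingCat.{u})

/-- `- ⊗ O ≅ id`. -/
noncomputable def rightUnitorIso : (ModSite.tensorBi O).flip.obj (ModSite.unit O) ≅ 𝟭 (ModSite.Mod O) :=
  Functor.isoWhiskerLeft (forg O)
      (Functor.isoWhiskerRight (rightUnitorNatIso (PMod O)) (shf O)) ≪≫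
    asIso (shfAdj O).counit

variable {O} (s : GSec O)

/-- multiplication by `s` on homology. -/
lemma homologyMap_smul_id (Y : CochainComplex (ModSite.Mod O) ℤ) (n : ℤ) :
    HomologicalComplex.homologyMap (s • 𝟙 Y) n = smulEnd s (Y.homology n) := by
  have h1 : (shortComplexFunctor (ModSite.Mod O) (ComplexShape.up ℤ) n).map (s • 𝟙 Y) = s • 𝟙 (Y.sc n) := by
    ext <;> rfl
  change ShortComplex.homologyMap ((shortComplexFunctor (ModSite.Mod O) (ComplexShape.up ℤ) n).map (s • 𝟙 Y)) = _
  rw [h1, ShortComplex.homologyMap_smul, ShortComplex.homologyMap_id, smul_id_eq_smulEnd]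
  rfl

/-- if `s` is invertible on `Q(Y)` then it is on the homology of `Y`. -/
lemma isIso_smulEnd_homology (Y : CochainComplex (ModSite.Mod O) ℤ)
    (h : IsIso (s • 𝟙 (DerivedCategory.Q.obj Y))) (n : ℤ) : IsIso (smulEnd s (Y.homology n)) := by
  have h1 : s • 𝟙 (DerivedCategory.Q.obj Y) = DerivedCategory.Q.map (s • 𝟙 Y) := by
    rw [CategoryTheory.Functor.map_smul, CategoryTheory.Functor.map_id]
  rw [h1, DerivedCategory.isIso_Q_map_iff_quasiIso] at h
  rw [← homologyMap_smul_id]
  exact (quasiIsoAt_iff_isIso_homologyMap (s • 𝟙 Y) n).1 (h.quasiIsoAt n)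

section Main

variable (E : CochainComplex (ModSite.Mod O) ℤ) (hE : ∀ q, q ≠ 0 → IsZero (E.X q))
  (ι₀ : ModSite.unit O ⟶ E.X 0)

/-- the natural transformation `N ⟶ N ⊗ E⁰`. -/
noncomputable def tauNat : 𝟭 (ModSite.Mod O) ⟶ (ModSite.tensorBi O).flip.obj (E.X 0) :=
  (rightUnitorIso O).inv ≫ (ModSite.tensorBi O).flip.map ι₀

lemma tauNat_app (N : ModSite.Mod O) :
    (tauNat E ι₀).app N = (rightUnitorIso O).inv.app N ≫ ((ModSite.tensorBi O).obj N).map ι₀ := rfl

/-- the natural map `Y ⟶ Tot(Y ⊗ E)` of complexes. -/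
noncomputable def betaCx :
    𝟭 (CochainComplex (ModSite.Mod O) ℤ) ⟶ (ModSite.tensorCx O).flip.obj E where
  app Y := natTransCx _ _ (tauNat E ι₀) Y ≫ tensorSingleHom Y E hE
  naturality Y Y' f := by
    dsimp
    rw [← Category.assoc, natTransCx_naturality, Category.assoc, tensorSingleHom_naturality,
      Category.assoc]

include s in
/-- if `s` is invertible on `Q(Y)` then `Y ⟶ Tot(Y ⊗ E)` is a quasi-isomorphism. -/
theorem quasiIso_betaCx_app (hflat : ModSite.IsFlat (E.X 0))
    (hiso : ∀ N : ModSite.Mod O, IsIso (smulEnd s N) →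
      IsIso (((ModSite.tensorBi O).obj N).map ι₀))
    (Y : CochainComplex (ModSite.Mod O) ℤ) (hY : IsIso (s • 𝟙 (DerivedCategory.Q.obj Y))) :
    QuasiIso ((betaCx E hE ι₀).app Y) := by
  haveI : PreservesFiniteLimits ((ModSite.tensorBi O).flip.obj (E.X 0)) := hflat.1
  haveI : PreservesFiniteColimits ((ModSite.tensorBi O).flip.obj (E.X 0)) := hflat.2
  haveI h1 : QuasiIso (natTransCx (ComplexShape.up ℤ) _ (tauNat E ι₀) Y) :=
    quasiIso_natTransCx _ _ _ Y (fun n => by
      rw [tauNat_app]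
      haveI := hiso _ (isIso_smulEnd_homology s Y hY n)
      infer_instance)
  change QuasiIso (natTransCx _ _ (tauNat E ι₀) Y ≫ tensorSingleHom Y E hE)
  infer_instance

section Derived

variable [ModSite.HasLTensorCx E]

local notation "W" => HomologicalComplex.quasiIso (ModSite.Mod O) (ComplexShape.up ℤ)

/-- the natural map `Q(Y) ⟶ Q(Tot(Y ⊗ E))`. -/
noncomputable def betaQ :
    DerivedCategory.Q ⋙ 𝟭 (DCoh.DMod (ModSite.ringSh O)) ⟶ ModSite.tensorCxQ E :=
  (Functor.rightUnitor _).hom ≫ (Functor.leftUnitor _).inv ≫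
    Functor.whiskerRight (betaCx E hE ι₀) DerivedCategory.Q

lemma betaQ_app (Y : CochainComplex (ModSite.Mod O) ℤ) :
    (betaQ E hE ι₀).app Y = DerivedCategory.Q.map ((betaCx E hE ι₀).app Y) := by
  simp [betaQ]

/-- the natural transformation `X ⟶ X ⊗^L E`. -/
noncomputable def etaD : 𝟭 (DCoh.DMod (ModSite.ringSh O)) ⟶ ModSite.LTensorCx E :=
  (ModSite.LTensorCx E).leftDerivedLift
    ((ModSite.tensorCxQ E).totalLeftDerivedCounit DerivedCategory.Q W) W _ (betaQ E hE ι₀)

lemma etaD_fac (Y : CochainComplex (ModSite.Mod O) ℤ) :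
    (etaD E hE ι₀).app (DerivedCategory.Q.obj Y) ≫
        ((ModSite.tensorCxQ E).totalLeftDerivedCounit DerivedCategory.Q W).app Y =
      DerivedCategory.Q.map ((betaCx E hE ι₀).app Y) := by
  rw [← betaQ_app]
  exact Functor.leftDerived_fac_app _ _ W _ (betaQ E hE ι₀) Y

include s in
/-- `X ⟶ X ⊗^L E` is an isomorphism when `s` is invertible on `X`. -/
theorem isIso_etaD_app (hflat : ModSite.IsFlat (E.X 0))
    (hiso : ∀ N : ModSite.Mod O, IsIso (smulEnd s N) →
      IsIso (((ModSite.tensorBi O).obj N).map ι₀))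
    (X : DCoh.DMod (ModSite.ringSh O)) (hX : IsIso (s • 𝟙 X)) : IsIso ((etaD E hE ι₀).app X) := by
  obtain ⟨Y, hY, ⟨e⟩⟩ := exists_isKFlat_iso O X
  rw [← NatTrans.isIso_app_iff_of_iso (etaD E hE ι₀) e]
  haveI : IsIso (s • 𝟙 (DerivedCategory.Q.obj Y)) := isIso_smulId_of_iso s e.symm
  haveI h1 : IsIso (((ModSite.tensorCxQ E).totalLeftDerivedCounit DerivedCategory.Q W).app Y) :=
    isIso_counit_of_isKFlat O E _ _ Y hY
  haveI : QuasiIso ((betaCx E hE ι₀).app Y) :=
    quasiIso_betaCx_app s E hE ι₀ hflat hiso Y inferInstance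
  have h2 : IsIso ((etaD E hE ι₀).app (DerivedCategory.Q.obj Y) ≫
      ((ModSite.tensorCxQ E).totalLeftDerivedCounit DerivedCategory.Q W).app Y) := by
    rw [etaD_fac]
    infer_instance
  exact IsIso.of_isIso_comp_right _
    (((ModSite.tensorCxQ E).totalLeftDerivedCounit DerivedCategory.Q W).app Y)

include hE in
/-- `s` is invertible on `E` if it is on `E⁰`. -/
lemma isIso_smul_id_cx (hs : IsIso (smulEnd s (E.X 0))) : IsIso (s • 𝟙 E) := by
  haveI : ∀ q, IsIso ((s • 𝟙 E).f q) := fun q => by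
    by_cases hq : q = 0
    · subst hq
      rw [smul_f_apply, id_f, smul_id_eq_smulEnd]
      exact hs
    · exact ⟨⟨0, (hE q hq).eq_of_src _ _, (hE q hq).eq_of_src _ _⟩⟩
  exact HomologicalComplex.Hom.isIso_of_components _

include hE in
/-- `- ⊗^L E` inverts multiplication by `s`. -/
theorem isIso_LTensorCx_map_smul (hs : IsIso (smulEnd s (E.X 0)))
    (X : DCoh.DMod (ModSite.ringSh O)) : IsIso ((ModSite.LTensorCx E).map (s • 𝟙 X)) := by
  haveI hE' : IsIso (s • 𝟙 E) := isIso_smul_id_cx s E hE hs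
  obtain ⟨Y, hY, ⟨e⟩⟩ := exists_isKFlat_iso O X
  have h1 : (ModSite.LTensorCx E).map (s • 𝟙 X) =
      (ModSite.LTensorCx E).map e.inv ≫ (ModSite.LTensorCx E).map (s • 𝟙 (DerivedCategory.Q.obj Y)) ≫
        (ModSite.LTensorCx E).map e.hom := by
    rw [← Functor.map_comp, ← Functor.map_comp]
    congr 1
    rw [smulId_comp, Linear.comp_smul, e.inv_hom_id]
  rw [h1]
  suffices IsIso ((ModSite.LTensorCx E).map (s • 𝟙 (DerivedCategory.Q.obj Y))) by infer_instance
  have h2 : s • 𝟙 (DerivedCategory.Q.obj Y) = DerivedCategory.Q.map (s • 𝟙 Y) := by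
    rw [CategoryTheory.Functor.map_smul, CategoryTheory.Functor.map_id]
  rw [h2]
  haveI h3 : IsIso (((ModSite.tensorCxQ E).totalLeftDerivedCounit DerivedCategory.Q W).app Y) :=
    isIso_counit_of_isKFlat O E _ _ Y hY
  have nat := ((ModSite.tensorCxQ E).totalLeftDerivedCounit DerivedCategory.Q W).naturality (s • 𝟙 Y)
  have h4 : (ModSite.tensorCxQ E).map (s • 𝟙 Y) =
      DerivedCategory.Q.map (((ModSite.tensorCx O).obj Y).map (s • 𝟙 E)) :=
    congrArg DerivedCategory.Q.map (mapBifunctorMap_smul_id s Y E)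
  haveI h5 : IsIso ((ModSite.tensorCxQ E).map (s • 𝟙 Y)) := by
    rw [h4]
    infer_instance
  have h6 : IsIso ((DerivedCategory.Q ⋙ ModSite.LTensorCx E).map (s • 𝟙 Y) ≫
      ((ModSite.tensorCxQ E).totalLeftDerivedCounit DerivedCategory.Q W).app Y) := by
    rw [nat]
    infer_instance
  exact IsIso.of_isIso_comp_right ((DerivedCategory.Q ⋙ ModSite.LTensorCx E).map (s • 𝟙 Y))
    (((ModSite.tensorCxQ E).totalLeftDerivedCounit DerivedCategory.Q W).app Y)

include hE in
/-- **`RHom(E, K)` is a derived limit of multiplication by `s` on `K`**, for a complex `E` concentrated in degree `0`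
whose term `E⁰` is flat, with `s` invertible on it, and with a map `O ⟶ E⁰` which becomes an isomorphism after tensoring with
any module on which `s` is invertible. -/
theorem isT_RHom_of_away [DerComp.HasRHom E] (hflat : ModSite.IsFlat (E.X 0))
    (hiso : ∀ N : ModSite.Mod O, IsIso (smulEnd s N) →
      IsIso (((ModSite.tensorBi O).obj N).map ι₀))
    (hs : IsIso (smulEnd s (E.X 0)))
    (K : DerivedCategory (ModSite.Mod O)) [HasProduct fun _ : ℕ => K] :
    DerComp.IsT s K ((DerComp.RHom E).obj K) := by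
  obtain ⟨a, c, h⟩ := exists_triangle_of_adjunction (s := s) (DerComp.RHomAdj E) (etaD E hE ι₀)
    (isIso_LTensorCx_map_smul s E hE hs) (isIso_etaD_app s E hE ι₀ hflat hiso) K
  exact ⟨a, c, h⟩

end Derived

end Main

/-- `s` is invertible on `F_s`. -/
lemma isIso_smulEnd_telescope (F : ModSite.Mod O) :
    IsIso (smulEnd s (cokernel (awayGen F (smulEnd s F)))) := by
  refine isIso_of_comm F (smulEnd s F) _ (fun n => ?_)
  have h1 := smulEnd_comm s (cokernel.π (awayGen F (smulEnd s F)))
  have h2 := smulEnd_comm s (Sigma.ι (fun _ : ℕ => F) n)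
  rw [← h1, ← Category.assoc, ← h2, Category.assoc]

instance isIso_smulEnd_locAway (F : ModSite.Mod O) : IsIso (smulEnd s (locAway s F)) :=
  isIso_smulEnd_telescope s F

/-- **`RHom_O(O_s, K)` is a derived limit `T(K, s)`.** -/
theorem isT_rhom_away
    [ModSite.HasLTensorCx ((CochainComplex.singleFunctor (ModSite.Mod O) 0).obj
      (locAway s (ModSite.unit O)))]
    [DerComp.HasRHom ((CochainComplex.singleFunctor (ModSite.Mod O) 0).obj
      (locAway s (ModSite.unit O)))]
    (K : DerivedCategory (ModSite.Mod O)) [HasProduct fun _ : ℕ => K] :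
    DerComp.IsT s K ((DerComp.RHom ((CochainComplex.singleFunctor (ModSite.Mod O) 0).obj
      (locAway s (ModSite.unit O)))).obj K) := by
  let e : ((CochainComplex.singleFunctor (ModSite.Mod O) 0).obj (locAway s (ModSite.unit O))).X 0 ≅
      locAway s (ModSite.unit O) :=
    HomologicalComplex.singleObjXSelf (ComplexShape.up ℤ) 0 (locAway s (ModSite.unit O))
  let c' : Cocone (awaySeq s) := (awayCocone s).extend e.inv
  have hc' : IsColimit c' := IsColimit.extendIso (s := awayCocone s) e.inv (isColimitAwayCocone s)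
  refine isT_RHom_of_away s
    ((CochainComplex.singleFunctor (ModSite.Mod O) 0).obj (locAway s (ModSite.unit O)))
    (fun q hq => HomologicalComplex.isZero_single_obj_X (ComplexShape.up ℤ) 0 _ q hq)
    (c'.ι.app 0) (isFlat_pt_of_isColimit c' hc')
    (fun N hN => by have := hN; exact isIso_tensor_ι_zero c' hc' N) ?_ K
  have h1 : smulEnd s (((CochainComplex.singleFunctor (ModSite.Mod O) 0).obj
      (locAway s (ModSite.unit O))).X 0) = e.hom ≫ smulEnd s (locAway s (ModSite.unit O)) ≫ e.inv := by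
    rw [smulEnd_comm, e.hom_inv_id_assoc]
  rw [h1]
  infer_instance

end Groth.Agent.H45.DerCompl
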