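import Mathlib.CategoryTheory.Adjunction.FullyFaithful
import Mathlib.CategoryTheory.ObjectProperty.FullSubcategory
import Mathlib.CategoryTheory.Yoneda

/-!
# Recognising the reflection into a full subcategory (helper45)

`P` a property of objects of `T`, `L ⊣ P.ι` a reflection.  A map `g : X ⟶ Y` with `Y` in `P` such that every map from `X`
to an object of `P` factors uniquely through `g` induces an isomorphism `L X ≅ Y`.  Conversely the unit has this
universal property.
-/

set_option autoImplicit false
open CategoryTheory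

namespace Groth.Agent.H45.DerCompl

variable {T : Type*} [Category T] {P : ObjectProperty T} {L : T ⥤ P.FullSubcategory} (adj : L ⊣ P.ι)

include adj in
/-- the unit of a reflection is universal. -/
lemma bijective_unit_comp (X : T) (Z : P.FullSubcategory) :
    Function.Bijective (fun h : (L.obj X).obj ⟶ Z.obj => adj.unit.app X ≫ h) := by
  have h1 : (fun h : (L.obj X).obj ⟶ Z.obj => adj.unit.app X ≫ h) =
      (adj.homEquiv X Z) ∘ (fun h : (L.obj X).obj ⟶ Z.obj => (P.ι.preimage h : L.obj X ⟶ Z)) := by
    funext h
    change adj.unit.app X ≫ h = adj.homEquiv X Z (P.ι.preimage h)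
    rw [Adjunction.homEquiv_unit, Functor.map_preimage]
  rw [h1]
  refine (adj.homEquiv X Z).bijective.comp ⟨?_, ?_⟩
  · intro a b hab
    have := congrArg P.ι.map hab
    rwa [Functor.map_preimage, Functor.map_preimage] at this
  · intro k
    exact ⟨P.ι.map k, P.ι.preimage_map k⟩

/-- a universal map into an object of `P` identifies it with the reflection. -/
theorem isIso_homEquiv_symm_of_bijective (X : T) (Y : P.FullSubcategory) (g : X ⟶ Y.obj)
    (hg : ∀ Z : P.FullSubcategory, Function.Bijective (fun h : Y.obj ⟶ Z.obj => g ≫ h)) :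
    IsIso ((adj.homEquiv X Y).symm g) := by
  apply isIso_of_coyoneda_map_bijective
  intro Z
  have h1 : (adj.homEquiv X Z) ∘ (fun k : Y ⟶ Z => (adj.homEquiv X Y).symm g ≫ k) =
      (fun h : Y.obj ⟶ Z.obj => g ≫ h) ∘ (fun k : Y ⟶ Z => P.ι.map k) := by
    funext k
    change adj.homEquiv X Z ((adj.homEquiv X Y).symm g ≫ k) = g ≫ P.ι.map k
    rw [Adjunction.homEquiv_naturality_right, Equiv.apply_symm_apply]
  have h2 : Function.Bijective (fun k : Y ⟶ Z => P.ι.map k) :=
    ⟨fun a b hab => P.ι.map_injective hab, fun h => ⟨P.ι.preimage h, P.ι.map_preimage h⟩⟩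
  have h3 : Function.Bijective ((adj.homEquiv X Z) ∘
      (fun k : Y ⟶ Z => (adj.homEquiv X Y).symm g ≫ k)) := by
    rw [h1]
    exact (hg Z).comp h2
  exact (Function.Bijective.of_comp_iff' (adj.homEquiv X Z).bijective _).1 h3

end Groth.Agent.H45.DerCompl
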