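import Groth.Agent.H45.DerCompl.IdealOf

/-!
# Derived completeness and restriction of scalars (helper45)

For a morphism `φ : O ⟶ O'` of sheaves of rings on a site, `K' ∈ D(O')`, an object `V` and `f ∈ O(V)`:
the vanishing condition at `(V, f)` for the restriction of `K'` to `D(O)` is the vanishing condition at `(V, φ f)` for `K'`.
-/

set_option autoImplicit false
universe w w' u
open CategoryTheory CategoryTheory.Limits Opposite DerivedCategory

namespace Groth.Agent.H45.DerCompl

open Groth.Agent.H45.PushLocal Groth.Agent.H45.RlimModW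

variable {C : Type u} [SmallCategory C] {J : GrothendieckTopology C} {O O' : Sheaf J CommRingCat.{u}}
  (φ : O ⟶ O')

/-- the morphism of ringed sites `(C, O') ⟶ (C, O)` given by the identity functor and `φ`. -/
noncomputable def rmorOf : ModSite.RMor O' O where
  fn := 𝟭 C
  exact := preservesFiniteLimits_of_natIso
    (((𝟭 C).sheafAdjunctionContinuous (Type u) J J).leftAdjointIdIso
      (Functor.sheafPushforwardContinuousId (Type u) J)).symm
  sharp := φ

/-- restriction of scalars along `φ`. -/
noncomputable abbrev resφ : ModSite.Mod O' ⥤ ModSite.Mod O :=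
  SheafOfModules.restrictScalars.{u}
    ((sheafCompose J (forget₂ CommRingCat.{u} RingCat.{u})).map φ)

lemma isPLocal_res (I' : CochainComplex (ModSite.Mod O') ℤ) [I'.IsKInjective] :
    IsPLocal O (((resφ φ).mapHomologicalComplex (ComplexShape.up ℤ)).obj I') :=
  isPLocal_push (rmorOf φ) I'

lemma teleInj_res_iff (I' : CochainComplex (ModSite.Mod O') ℤ) (V : C) (f : O.obj.obj (op V))
    (n : ℤ) :
    TeleInj (((resφ φ).mapHomologicalComplex (ComplexShape.up ℤ)).obj I') V f n ↔
      TeleInj I' V ((φ.hom.app (op V)).hom f) n := Iff.rfl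

lemma teleSurj_res_iff (I' : CochainComplex (ModSite.Mod O') ℤ) (V : C) (f : O.obj.obj (op V))
    (n : ℤ) :
    TeleSurj (((resφ φ).mapHomologicalComplex (ComplexShape.up ℤ)).obj I') V f n ↔
      TeleSurj I' V ((φ.hom.app (op V)).hom f) n := Iff.rfl

variable [HasDerivedCategory.{w} (ModSite.Mod O)] [HasDerivedCategory.{w'} (ModSite.Mod O')]
  [PreservesFiniteLimits (resφ φ)] [PreservesFiniteColimits (resφ φ)]

/-- **transfer of the vanishing condition along restriction of scalars.** -/
theorem vanishing_res_iff (K' : DerivedCategory (ModSite.Mod O')) (V : C) (f : O.obj.obj (op V)) :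
    (∀ n : ℤ, Subsingleton ((DerivedCategory.singleFunctor (ModSite.Mod O) 0).obj
        ((ModSite.extZero O V).obj (DerComp.awayOver O V f)) ⟶
          ((resφ φ).mapDerivedCategory.obj K')⟦n⟧)) ↔
      ∀ n : ℤ, Subsingleton ((DerivedCategory.singleFunctor (ModSite.Mod O') 0).obj
        ((ModSite.extZero O' V).obj (DerComp.awayOver O' V ((φ.hom.app (op V)).hom f))) ⟶
          K'⟦n⟧) := by
  obtain ⟨I', hI', ⟨e⟩⟩ := exists_kInj_model K'
  let a : (resφ φ).mapDerivedCategory.obj K' ≅
      Q.obj (((resφ φ).mapHomologicalComplex (ComplexShape.up ℤ)).obj I') :=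
    (resφ φ).mapDerivedCategory.mapIso e ≪≫ ((resφ φ).mapDerivedCategoryFactors).app I'
  rw [vanishing_iff_tele K' I' e V ((φ.hom.app (op V)).hom f), derComp_criterion]
  refine forall_congr' (fun n => ?_)
  rw [bijective_teleOp_congr V f a n, bijective_teleOp_iff _ (isPLocal_res φ I') V f n,
    teleInj_res_iff, teleSurj_res_iff]

lemma sharp_naturality {U V : C} (h : V ⟶ U) (g : O.obj.obj (op U)) :
    (O'.obj.map h.op).hom ((φ.hom.app (op U)).hom g) =
      (φ.hom.app (op V)).hom ((O.obj.map h.op).hom g) := by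
  have h1 := φ.hom.naturality h.op
  have h2 := congrArg (fun t => t.hom g) h1
  exact h2.symm

/-- **derived completeness and restriction of scalars.** -/
theorem isDerComp_res_iff (I : DerComp.IdealSh O) (I' : DerComp.IdealSh O')
    (hI' : DerComp.IsIdealExt φ I I') (K' : DerivedCategory (ModSite.Mod O')) :
    (∀ (U : C) (f : O'.obj.obj (op U)), f ∈ I'.ideal U → ∀ n : ℤ,
      Subsingleton ((DerivedCategory.singleFunctor (ModSite.Mod O') 0).obj
        ((ModSite.extZero O' U).obj (DerComp.awayOver O' U f)) ⟶ K'⟦n⟧)) ↔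
    (∀ (U : C) (f : O.obj.obj (op U)), f ∈ I.ideal U → ∀ n : ℤ,
      Subsingleton ((DerivedCategory.singleFunctor (ModSite.Mod O) 0).obj
        ((ModSite.extZero O U).obj (DerComp.awayOver O U f)) ⟶
          ((resφ φ).mapDerivedCategory.obj K')⟦n⟧)) := by
  constructor
  · intro h U f hf
    exact (vanishing_res_iff φ K' U f).2 (h U _ (hI'.1 U f hf))
  · intro h U f' hf'
    have hmaps : DerComp.MapsIdealInto φ I (vanIdealSh O' K') := by
      intro U g hg
      change (φ.hom.app (op U)).hom g ∈ vanIdeal O' K' U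
      rw [mem_vanIdeal]
      intro V p n
      rw [sharp_naturality]
      exact (vanishing_res_iff φ K' V _).1 (h V _ (I.map_mem p hg)) n
    have hle := hI'.2 (vanIdealSh O' K') hmaps U hf'
    have h1 := (mem_vanIdeal O' K' U f').1 hle U (𝟙 U)
    rwa [sect_id] at h1

end Groth.Agent.H45.DerCompl
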