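import Groth.Agent.H45.DerCompl.MulFree
import Groth.Agent.H45.PushLocal.SectHom

/-!
# The telescope operator on `H^n(V, L)` for a `PAcyc`-local complex, sectionwise (helper45)

For a `PAcyc`-local complex `L` of `O`-modules (a K-injective complex, or the direct image of one), an object `V` and
`g ∈ O(V)`: the operator `(α_i) ↦ (α_i - μ_g ≫ α_{i+1})` on sequences in `Hom_{D(O)}(j_{V!}O_V[0], L⟦n⟧)` is bijective iff the
complex of sections `L(V)` satisfies the elementwise conditions `TeleInj` and `TeleSurj` in degree `n`.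
-/

set_option autoImplicit false
universe w u
open CategoryTheory CategoryTheory.Limits Opposite DerivedCategory

namespace Groth.Agent.H45.DerCompl

open Groth.Agent.H45.RlimModW Groth.Agent.H45.PushLocal

variable {C : Type u} [SmallCategory C] {J : GrothendieckTopology C} {O : Sheaf J CommRingCat.{u}}

/-- (TI): a sequence of cycles `x_i` with all `x_i - g x_{i+1}` boundaries consists of boundaries. -/
def TeleInj (L : CochainComplex (ModSite.Mod O) ℤ) (V : C) (g : O.obj.obj (op V)) (n : ℤ) : Prop :=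
  ∀ x : ℕ → (L.X n).val.obj (op V), (∀ i, (L.d n (n + 1)).val.app (op V) (x i) = 0) →
    (∀ i, ∃ b : (L.X (n - 1)).val.obj (op V),
      (L.d (n - 1) n).val.app (op V) b = x i - scal O V g • x (i + 1)) →
    ∀ i, ∃ c : (L.X (n - 1)).val.obj (op V), (L.d (n - 1) n).val.app (op V) c = x i

/-- (TS): every sequence of cycles `y_i` is of the form `x_i - g x_{i+1}` up to boundaries. -/
def TeleSurj (L : CochainComplex (ModSite.Mod O) ℤ) (V : C) (g : O.obj.obj (op V)) (n : ℤ) : Prop :=
  ∀ y : ℕ → (L.X n).val.obj (op V), (∀ i, (L.d n (n + 1)).val.app (op V) (y i) = 0) →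
    ∃ x : ℕ → (L.X n).val.obj (op V), (∀ i, (L.d n (n + 1)).val.app (op V) (x i) = 0) ∧
      ∀ i, ∃ b : (L.X (n - 1)).val.obj (op V),
        x i - scal O V g • x (i + 1) = y i + (L.d (n - 1) n).val.app (op V) b

variable [HasDerivedCategory.{w} (ModSite.Mod O)]

lemma clsO_sub (L : CochainComplex (ModSite.Mod O) ℤ) (q : ℤ) (V : C) (q' : ℤ) (hq' : q + 1 = q')
    (x y : (L.X q).val.obj (op V)) (hx : (L.d q q').val.app (op V) x = 0)
    (hy : (L.d q q').val.app (op V) y = 0) (hxy : (L.d q q').val.app (op V) (x - y) = 0) :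
    clsO L q V q' hq' (x - y) hxy = clsO L q V q' hq' x hx - clsO L q V q' hq' y hy := by
  have hsum : x - y + y = x := sub_add_cancel x y
  have h0 : (L.d q q').val.app (op V) (x - y + y) = 0 := by rw [hsum]; exact hx
  have h1 := clsO_add L q V q' hq' (x - y) y hxy hy h0
  rw [clsO_congr L q V q' hq' hsum h0 hx] at h1
  rw [h1, add_sub_cancel_right]

lemma sub_cycle (L : CochainComplex (ModSite.Mod O) ℤ) (q q' : ℤ) (V : C)
    (x y : (L.X q).val.obj (op V)) (hx : (L.d q q').val.app (op V) x = 0)
    (hy : (L.d q q').val.app (op V) y = 0) : (L.d q q').val.app (op V) (x - y) = 0 := by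
  rw [map_sub, hx, hy, sub_zero]

lemma teleOp_sub (V : C) (g : O.obj.obj (op V)) (X : DerivedCategory (ModSite.Mod O)) (n : ℤ)
    (α β : ℕ → ((DerivedCategory.singleFunctor (ModSite.Mod O) 0).obj (ModSite.freeOn O V) ⟶ X⟦n⟧)) :
    teleOp (ModSite.freeOn O V) (mulFree O V g) X n (α - β) =
      teleOp (ModSite.freeOn O V) (mulFree O V g) X n α -
        teleOp (ModSite.freeOn O V) (mulFree O V g) X n β := by
  funext i
  change (α i - β i) - _ ≫ (α (i + 1) - β (i + 1)) = (α i - _ ≫ α (i + 1)) - (β i - _ ≫ β (i + 1))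
  rw [Preadditive.comp_sub]
  abel


section main

variable (L : CochainComplex (ModSite.Mod O) ℤ) (hL : IsPLocal O L) (V : C) (g : O.obj.obj (op V))
  (n : ℤ)
include hL

/-- the value of the telescope operator on classes of cycles. -/
lemma teleOp_clsO (x : ℕ → (L.X n).val.obj (op V))
    (hx : ∀ i, (L.d n (n + 1)).val.app (op V) (x i) = 0) (i : ℕ) :
    teleOp (ModSite.freeOn O V) (mulFree O V g) (Q.obj L) n
        (fun j => clsO L n V (n + 1) rfl (x j) (hx j)) i =
      clsO L n V (n + 1) rfl (x i - scal O V g • x (i + 1))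
        (sub_cycle L n (n + 1) V _ _ (hx i) (smul_cycle L n (n + 1) V g _ (hx (i + 1)))) := by
  rw [clsO_sub L n V (n + 1) rfl _ _ (hx i) (smul_cycle L n (n + 1) V g _ (hx (i + 1))),
    clsO_smul L n V g (n + 1) rfl (x (i + 1)) (hx (i + 1))]
  rfl

theorem injective_teleOp_iff :
    Function.Injective (teleOp (ModSite.freeOn O V) (mulFree O V g) (Q.obj L) n) ↔
      TeleInj L V g n := by
  constructor
  · intro hinj x hx hb i
    have h1 : teleOp (ModSite.freeOn O V) (mulFree O V g) (Q.obj L) n
        (fun j => clsO L n V (n + 1) rfl (x j) (hx j)) =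
        teleOp (ModSite.freeOn O V) (mulFree O V g) (Q.obj L) n (fun _ => 0) := by
      funext j
      rw [teleOp_clsO L hL V g n x hx j]
      have h2 : teleOp (ModSite.freeOn O V) (mulFree O V g) (Q.obj L) n (fun _ => 0) j = 0 := by
        change (0 : _ ⟶ _) - _ ≫ (0 : _ ⟶ _) = 0
        rw [comp_zero, sub_zero]
      rw [h2]
      exact (clsO_eq_zero_iff_of_local L hL n V (n + 1) rfl _ _ (n - 1) (by omega)).2 (hb j)
    have h3 := congrFun (hinj h1) i
    exact (clsO_eq_zero_iff_of_local L hL n V (n + 1) rfl _ (hx i) (n - 1) (by omega)).1 h3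
  · intro hTI α β hαβ
    have hγ : teleOp (ModSite.freeOn O V) (mulFree O V g) (Q.obj L) n (α - β) = 0 := by
      rw [teleOp_sub, hαβ, sub_self]
    have hch := fun i => clsO_surjective_of_local L hL n V (n + 1) rfl ((α - β) i)
    choose x hx hxγ using hch
    have hγ' : (fun j => clsO L n V (n + 1) rfl (x j) (hx j)) = α - β := funext hxγ
    have hb : ∀ i, ∃ b : (L.X (n - 1)).val.obj (op V),
        (L.d (n - 1) n).val.app (op V) b = x i - scal O V g • x (i + 1) := by
      intro i
      have h1 := teleOp_clsO L hL V g n x hx i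
      rw [hγ', hγ] at h1
      exact (clsO_eq_zero_iff_of_local L hL n V (n + 1) rfl _ _ (n - 1) (by omega)).1 h1.symm
    have hc := hTI x hx hb
    have hzero : α - β = 0 := by
      funext i
      rw [← hxγ i]
      exact (clsO_eq_zero_iff_of_local L hL n V (n + 1) rfl _ (hx i) (n - 1) (by omega)).2 (hc i)
    exact sub_eq_zero.1 hzero

theorem surjective_teleOp_iff :
    Function.Surjective (teleOp (ModSite.freeOn O V) (mulFree O V g) (Q.obj L) n) ↔
      TeleSurj L V g n := by
  constructor
  · intro hsurj y hy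
    obtain ⟨α, hα⟩ := hsurj (fun j => clsO L n V (n + 1) rfl (y j) (hy j))
    have hch := fun i => clsO_surjective_of_local L hL n V (n + 1) rfl (α i)
    choose x hx hxα using hch
    have hα' : (fun j => clsO L n V (n + 1) rfl (x j) (hx j)) = α := funext hxα
    refine ⟨x, hx, fun i => ?_⟩
    have h1 := teleOp_clsO L hL V g n x hx i
    rw [hα', hα] at h1
    -- the two cycles have the same class
    have hcyc := sub_cycle L n (n + 1) V _ _ (hx i) (smul_cycle L n (n + 1) V g _ (hx (i + 1)))
    have hd := sub_cycle L n (n + 1) V _ _ hcyc (hy i)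
    have h2 : clsO L n V (n + 1) rfl (x i - scal O V g • x (i + 1) - y i) hd = 0 := by
      rw [clsO_sub L n V (n + 1) rfl _ _ hcyc (hy i), ← h1, sub_self]
    obtain ⟨b, hb⟩ := (clsO_eq_zero_iff_of_local L hL n V (n + 1) rfl _ hd (n - 1)
      (by omega)).1 h2
    exact ⟨b, by rw [hb]; abel⟩
  · intro hTS β
    have hch := fun i => clsO_surjective_of_local L hL n V (n + 1) rfl (β i)
    choose y hy hyβ using hch
    obtain ⟨x, hx, hxb⟩ := hTS y hy
    refine ⟨fun j => clsO L n V (n + 1) rfl (x j) (hx j), ?_⟩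
    funext i
    rw [teleOp_clsO L hL V g n x hx i, ← hyβ i]
    obtain ⟨b, hb⟩ := hxb i
    have hcyc := sub_cycle L n (n + 1) V _ _ (hx i) (smul_cycle L n (n + 1) V g _ (hx (i + 1)))
    have hd := sub_cycle L n (n + 1) V _ _ hcyc (hy i)
    have h2 : clsO L n V (n + 1) rfl (x i - scal O V g • x (i + 1) - y i) hd = 0 :=
      (clsO_eq_zero_iff_of_local L hL n V (n + 1) rfl _ hd (n - 1) (by omega)).2
        ⟨b, by rw [hb]; abel⟩
    rw [clsO_sub L n V (n + 1) rfl _ _ hcyc (hy i)] at h2
    exact sub_eq_zero.1 h2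

theorem bijective_teleOp_iff :
    Function.Bijective (teleOp (ModSite.freeOn O V) (mulFree O V g) (Q.obj L) n) ↔
      TeleInj L V g n ∧ TeleSurj L V g n := by
  rw [← injective_teleOp_iff L hL V g n, ← surjective_teleOp_iff L hL V g n]
  rfl

end main

end Groth.Agent.H45.DerCompl
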