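import Groth.Agent.H45.DerCompl.AwayInv
import Mathlib.CategoryTheory.Functor.OfSequence

/-!
# The telescope `coker (1 - μ·shift)` as a sequential colimit (helper45)

* `seqD F μ : ℕ ⥤ A` is the sequence `F →μ F →μ F → …`;
* `seqCocone F μ` is the cocone on it with point `coker (awayGen F μ)` and `isColimitSeqCocone` says it is a colimit;
* `isIso_ι_zero_of_isIso_map`: in a colimit cocone on a sequence all of whose transition maps are isomorphisms, the
  `0`-th leg is an isomorphism.
-/

set_option autoImplicit false
universe v u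
open CategoryTheory CategoryTheory.Limits

namespace Groth.Agent.H45.DerCompl

section General

variable {A : Type u} [Category.{v} A]

/-- In a colimit cocone on a sequence whose transition maps are all isomorphisms the `0`-th leg is an isomorphism. -/
theorem isIso_ι_zero_of_isIso_map (D : ℕ ⥤ A) (c : Cocone D) (hc : IsColimit c)
    (h : ∀ n : ℕ, IsIso (D.map (homOfLE (n.le_add_right 1)))) : IsIso (c.ι.app 0) := by
  have h0 : ∀ n : ℕ, IsIso (D.map (homOfLE (Nat.zero_le n))) := by
    intro n
    induction n with
    | zero =>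
      have : homOfLE (Nat.zero_le 0) = 𝟙 (0 : ℕ) := Subsingleton.elim _ _
      rw [this, D.map_id]
      infer_instance
    | succ n ih =>
      have : homOfLE (Nat.zero_le (n + 1)) = homOfLE (Nat.zero_le n) ≫ homOfLE (n.le_add_right 1) :=
        Subsingleton.elim _ _
      rw [this, D.map_comp]
      haveI := ih
      haveI := h n
      infer_instance
  let c' : Cocone D :=
    { pt := D.obj 0
      ι :=
        { app := fun n => inv (D.map (homOfLE (Nat.zero_le n)))
          naturality := fun m n f => by
            dsimp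
            rw [Category.comp_id, IsIso.comp_inv_eq, IsIso.eq_inv_comp, ← D.map_comp]
            congr 1 } }
  refine ⟨⟨hc.desc c', ?_, ?_⟩⟩
  · rw [hc.fac]
    change inv (D.map (homOfLE (Nat.zero_le 0))) = 𝟙 _
    apply IsIso.inv_eq_of_hom_inv_id
    have : homOfLE (Nat.zero_le 0) = 𝟙 (0 : ℕ) := Subsingleton.elim _ _
    rw [this, D.map_id, Category.id_comp]
  · apply hc.hom_ext
    intro n
    rw [hc.fac_assoc]
    refine Eq.trans ?_ (Category.comp_id _).symm
    change inv (D.map (homOfLE (Nat.zero_le n))) ≫ c.ι.app 0 = _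
    rw [IsIso.inv_comp_eq, c.w]

end General

variable {A : Type u} [Category.{v} A] [Abelian A] (F : A) (μ : F ⟶ F)
  [HasCoproduct (fun _ : ℕ => F)]

/-- the sequence `F →μ F →μ F → …`. -/
noncomputable def seqD : ℕ ⥤ A := Functor.ofSequence (X := fun _ => F) (fun _ => μ)

omit [Abelian A] [HasCoproduct (fun _ : ℕ => F)] in
@[simp] lemma seqD_obj (n : ℕ) : (seqD F μ).obj n = F := rfl

omit [Abelian A] [HasCoproduct (fun _ : ℕ => F)] in
@[simp] lemma seqD_map_succ (n : ℕ) : (seqD F μ).map (homOfLE (n.le_add_right 1)) = μ :=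
  Functor.ofSequence_map_homOfLE_succ _ n

/-- the cocone on `seqD` with point the telescope. -/
noncomputable def seqCocone : Cocone (seqD F μ) where
  pt := cokernel (awayGen F μ)
  ι := NatTrans.ofSequence (fun n => Sigma.ι (fun _ : ℕ => F) n ≫ cokernel.π (awayGen F μ))
    (fun n => by
      rw [seqD_map_succ]
      dsimp
      rw [Category.comp_id]
      exact (ι_π_eq F μ n).symm)

@[simp] lemma seqCocone_ι_app (n : ℕ) :
    (seqCocone F μ).ι.app n = Sigma.ι (fun _ : ℕ => F) n ≫ cokernel.π (awayGen F μ) := rfl

/-- the telescope is the colimit of the sequence. -/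
noncomputable def isColimitSeqCocone : IsColimit (seqCocone F μ) where
  desc c := cokernel.desc (awayGen F μ) (Sigma.desc (fun n => c.ι.app n)) (by
    apply Sigma.hom_ext
    intro n
    rw [ι_awayGen_assoc, Preadditive.sub_comp, Category.assoc, Sigma.ι_desc, Sigma.ι_desc, comp_zero,
      sub_eq_zero]
    have := c.w (homOfLE (n.le_add_right 1))
    rw [seqD_map_succ] at this
    exact this.symm)
  fac c n := by
    change (Sigma.ι (fun _ : ℕ => F) n ≫ cokernel.π (awayGen F μ)) ≫ cokernel.desc (awayGen F μ) _ _ = _
    rw [Category.assoc, cokernel.π_desc, Sigma.ι_desc]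
  uniq c m hm := by
    apply coequalizer.hom_ext
    apply Sigma.hom_ext
    intro n
    change Sigma.ι (fun _ : ℕ => F) n ≫ cokernel.π (awayGen F μ) ≫ m =
      Sigma.ι (fun _ : ℕ => F) n ≫ cokernel.π (awayGen F μ) ≫ cokernel.desc (awayGen F μ) _ _
    rw [cokernel.π_desc, Sigma.ι_desc, ← hm n]
    exact (Category.assoc _ _ _).symm

end Groth.Agent.H45.DerCompl
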