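import Mathlib.CategoryTheory.Abelian.GrothendieckAxioms.Connected
import Mathlib.CategoryTheory.Abelian.GrothendieckAxioms.Colim
import Mathlib.CategoryTheory.Limits.Constructions.Filtered
import Mathlib.CategoryTheory.Limits.Shapes.ZeroMorphisms
import Mathlib.CategoryTheory.Filtered.Connected

/-!
# The projections of a coproduct are jointly monic under AB5 (helper45)

In an abelian category with exact filtered colimits the canonical map from a coproduct to the product
is a monomorphism; stated without products: a morphism `k : Z ⟶ ∐ f` all of whose components `k ≫ Sigma.π f b`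
vanish is zero.
-/

set_option autoImplicit false
universe w v u
open CategoryTheory CategoryTheory.Limits

namespace Groth.Agent.H45.DerCompl

open CoproductsFromFiniteFiltered

attribute [local instance] IsFiltered.isConnected

variable {A : Type u} [Category.{v} A] [Abelian A] {α : Type w} [DecidableEq α]
  [HasColimitsOfShape (Finset (Discrete α)) A] [HasExactColimitsOfShape (Finset (Discrete α)) A]
  (f : α → A) [HasCoproduct f]

lemma finite_part_eq_zero (S : Finset (Discrete α)) {P : A}
    (p : P ⟶ ∐ fun x : S => f x.1.as)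
    (hp : ∀ b : α, p ≫ Sigma.desc (fun s : S => Sigma.ι f s.1.as) ≫ Sigma.π f b = 0) : p = 0 := by
  classical
  have hid : 𝟙 (∐ fun x : S => f x.1.as) =
      ∑ s : S, (Sigma.desc (fun s : S => Sigma.ι f s.1.as) ≫ Sigma.π f s.1.as) ≫
        Sigma.ι (fun x : S => f x.1.as) s := by
    apply Sigma.hom_ext
    intro t
    rw [Category.comp_id, Preadditive.comp_sum]
    rw [Finset.sum_eq_single t]
    · rw [← Category.assoc, ← Category.assoc, Sigma.ι_desc, Sigma.ι_π_eq_id, Category.id_comp]
    · intro s _ hst
      rw [← Category.assoc, ← Category.assoc, Sigma.ι_desc, Sigma.ι_π_of_ne, zero_comp]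
      intro h
      apply hst
      apply Subtype.ext
      apply Discrete.ext
      exact h.symm
    · intro h
      exact absurd (Finset.mem_univ t) h
  rw [← Category.comp_id p, hid, Preadditive.comp_sum]
  apply Finset.sum_eq_zero
  intro s _
  rw [← Category.assoc, ← Category.assoc, Category.assoc p, hp, zero_comp]

omit [DecidableEq α] [HasColimitsOfShape (Finset (Discrete α)) A]
  [HasExactColimitsOfShape (Finset (Discrete α)) A] in
lemma eq_zero_of_pullback_fst_eq_zero {J : Type*} [Category J] [IsConnected J]
    [HasColimitsOfShape J A] [HasExactColimitsOfShape J A] {F : J ⥤ A} {c : Cocone F}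
    (hc : IsColimit c) {Z : A} (k : Z ⟶ c.pt)
    (h : ∀ j, pullback.fst (c.ι.app j) k = 0) : k = 0 := by
  have h' := hc.pullback_zero_ext (f := k) (g := 𝟙 _) (fun j => by
    rw [Category.comp_id]
    have h1 : pullback.fst (c.ι.app j) k ≫ c.ι.app j = pullback.snd (c.ι.app j) k ≫ k :=
      pullback.condition
    rw [← h1, h j, zero_comp])
  rwa [Category.comp_id] at h'

/-- **AB5: the projections of a coproduct are jointly monic.** -/
theorem eq_zero_of_comp_sigmaπ {Z : A} (k : Z ⟶ ∐ f) (hk : ∀ b : α, k ≫ Sigma.π f b = 0) :
    k = 0 := by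
  have hc := isColimitFiniteSubproductsCocone f
  refine eq_zero_of_pullback_fst_eq_zero hc (k : Z ⟶ (finiteSubcoproductsCocone f).pt) (fun S => ?_)
  apply finite_part_eq_zero f S
  intro b
  have h1 : pullback.fst ((finiteSubcoproductsCocone f).ι.app S)
        (k : Z ⟶ (finiteSubcoproductsCocone f).pt) ≫
      (finiteSubcoproductsCocone f).ι.app S = pullback.snd _ _ ≫ k := pullback.condition
  have h2 : ∀ {P : A} (p : P ⟶ ∐ fun x : S => f x.1.as) (q : P ⟶ Z),
      p ≫ Sigma.desc (fun s : S => Sigma.ι f s.1.as) = q ≫ k →
      p ≫ Sigma.desc (fun s : S => Sigma.ι f s.1.as) ≫ Sigma.π f b = 0 := by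
    intro P p q hpq
    rw [← Category.assoc, hpq, Category.assoc, hk, comp_zero]
  exact h2 _ _ h1

end Groth.Agent.H45.DerCompl
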