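import Groth.Agent.H45.DerCompl.SectCrit
import Groth.Agent.H45.PushLocal.SectProd

/-!
# The telescope map on a product of copies of a complex, for a global section (helper45)

On a ringed site with a GLOBAL section `s`, a complex `G` and a complex `P` whose sections are the sequences of sections
of `G` (for instance `P = ∏_ℕ G`), an endomorphism `φ` of `P` with `φ ≫ p_i = p_i - p_{i+1} ≫ s` satisfies (SI)/(SS) over
`Y` in degree `n` iff the complex `G` satisfies `TeleInj`/`TeleSurj` over `Y` for the section `s_Y`.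
-/

set_option autoImplicit false
universe u
open CategoryTheory CategoryTheory.Limits Opposite

namespace Groth.Agent.H45.DerCompl

open Groth.Agent.H45.PushLocal

variable {C : Type u} [SmallCategory C] {J : GrothendieckTopology C} {O : Sheaf J CommRingCat.{u}}

/-- multiplication by a global section on a complex of modules. -/
noncomputable def mulCx (s : DerComp.GSec O) (G : CochainComplex (ModSite.Mod O) ℤ) : G ⟶ G where
  f k := DerComp.smulEnd s (G.X k)
  comm' i j _ := DerComp.smulEnd_comm s (G.d i j)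

lemma mulCx_apply (s : DerComp.GSec O) (G : CochainComplex (ModSite.Mod O) ℤ) (k : ℤ) (Y : C)
    (x : (G.X k).val.obj (op Y)) :
    ((mulCx s G).f k).val.app (op Y) x = scal O Y (s.1 Y) • x := rfl

variable (s : DerComp.GSec O) {G P : CochainComplex (ModSite.Mod O) ℤ} (p : ∀ i : ℕ, P ⟶ G)
  (hp : IsSectProd p) (φ : P ⟶ P) (hφ : ∀ i, φ ≫ p i = p i - p (i + 1) ≫ mulCx s G)

include hφ in
lemma sect_φ (i : ℕ) (k : ℤ) (Y : C) (x : (P.X k).val.obj (op Y)) :
    ((p i).f k).val.app (op Y) ((φ.f k).val.app (op Y) x) =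
      ((p i).f k).val.app (op Y) x - scal O Y (s.1 Y) • ((p (i + 1)).f k).val.app (op Y) x := by
  have h1 : ((φ ≫ p i).f k).val.app (op Y) x =
      ((p i - p (i + 1) ≫ mulCx s G).f k).val.app (op Y) x := by rw [hφ]
  exact h1

include hp hφ in
theorem sectInj_iff_teleInj (n : ℤ) (Y : C) : SectInj φ n Y ↔ TeleInj G Y (s.1 Y) n := by
  constructor
  · intro h x hx hb i
    choose b hb using hb
    obtain ⟨X, hX⟩ := (hp n Y).2 x
    obtain ⟨B, hB⟩ := (hp (n - 1) Y).2 b
    have hXi : ∀ i, ((p i).f n).val.app (op Y) X = x i := fun i => congrFun hX i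
    have hBi : ∀ i, ((p i).f (n - 1)).val.app (op Y) B = b i := fun i => congrFun hB i
    have hdX : (P.d n (n + 1)).val.app (op Y) X = 0 := by
      apply (hp (n + 1) Y).1
      funext i
      change ((p i).f (n + 1)).val.app (op Y) ((P.d n (n + 1)).val.app (op Y) X) =
        ((p i).f (n + 1)).val.app (op Y) 0
      rw [← sect_d_comm, hXi, hx, map_zero]
    have hdB : (P.d (n - 1) n).val.app (op Y) B = (φ.f n).val.app (op Y) X := by
      apply (hp n Y).1
      funext i
      change ((p i).f n).val.app (op Y) ((P.d (n - 1) n).val.app (op Y) B) =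
        ((p i).f n).val.app (op Y) ((φ.f n).val.app (op Y) X)
      rw [← sect_d_comm, hBi, hb, sect_φ s p φ hφ, hXi, hXi]
    obtain ⟨y, hy⟩ := h (n - 1) (n + 1) (by omega) rfl X hdX ⟨B, hdB⟩
    refine ⟨((p i).f (n - 1)).val.app (op Y) y, ?_⟩
    rw [sect_d_comm, hy, hXi]
  · intro h q'' q' hq'' hq' X hdX hB
    obtain rfl : q'' = n - 1 := by omega
    obtain rfl : q' = n + 1 := by omega
    obtain ⟨B, hdB⟩ := hB
    have hc := h (fun i => ((p i).f n).val.app (op Y) X) (fun i => by
      rw [sect_d_comm, hdX, map_zero]) (fun i => ⟨((p i).f (n - 1)).val.app (op Y) B, by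
      rw [sect_d_comm, hdB, sect_φ s p φ hφ]⟩)
    choose c hc using hc
    obtain ⟨y, hy⟩ := (hp (n - 1) Y).2 c
    have hyi : ∀ i, ((p i).f (n - 1)).val.app (op Y) y = c i := fun i => congrFun hy i
    refine ⟨y, (hp n Y).1 ?_⟩
    funext i
    change ((p i).f n).val.app (op Y) ((P.d (n - 1) n).val.app (op Y) y) =
      ((p i).f n).val.app (op Y) X
    rw [← sect_d_comm, hyi, hc]

include hp hφ in
theorem sectSurj_iff_teleSurj (n : ℤ) (Y : C) : SectSurj φ n Y ↔ TeleSurj G Y (s.1 Y) n := by
  constructor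
  · intro h y hy
    obtain ⟨X', hX'⟩ := (hp n Y).2 y
    have hX'i : ∀ i, ((p i).f n).val.app (op Y) X' = y i := fun i => congrFun hX' i
    have hdX' : (P.d n (n + 1)).val.app (op Y) X' = 0 := by
      apply (hp (n + 1) Y).1
      funext i
      change ((p i).f (n + 1)).val.app (op Y) ((P.d n (n + 1)).val.app (op Y) X') =
        ((p i).f (n + 1)).val.app (op Y) 0
      rw [← sect_d_comm, hX'i, hy, map_zero]
    obtain ⟨X, B, hdX, hXB⟩ := h (n - 1) (n + 1) (by omega) rfl X' hdX'
    refine ⟨fun i => ((p i).f n).val.app (op Y) X, fun i => by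
      rw [sect_d_comm, hdX, map_zero], fun i => ?_⟩
    refine ⟨-((p i).f (n - 1)).val.app (op Y) B, ?_⟩
    have h1 := congrArg (fun t => ((p i).f n).val.app (op Y) t) hXB
    dsimp only at h1
    rw [map_add, sect_φ s p φ hφ, ← sect_d_comm, hX'i] at h1
    rw [map_neg, ← h1]
    abel
  · intro h q'' q' hq'' hq' X' hdX'
    obtain rfl : q'' = n - 1 := by omega
    obtain rfl : q' = n + 1 := by omega
    obtain ⟨x, hx, hxb⟩ := h (fun i => ((p i).f n).val.app (op Y) X') (fun i => by
      rw [sect_d_comm, hdX', map_zero])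
    choose b hb using hxb
    obtain ⟨X, hX⟩ := (hp n Y).2 x
    obtain ⟨B, hB⟩ := (hp (n - 1) Y).2 (fun i => -b i)
    have hXi : ∀ i, ((p i).f n).val.app (op Y) X = x i := fun i => congrFun hX i
    have hBi : ∀ i, ((p i).f (n - 1)).val.app (op Y) B = -b i := fun i => congrFun hB i
    refine ⟨X, B, (hp (n + 1) Y).1 ?_, (hp n Y).1 ?_⟩
    · funext i
      change ((p i).f (n + 1)).val.app (op Y) ((P.d n (n + 1)).val.app (op Y) X) =
        ((p i).f (n + 1)).val.app (op Y) 0
      rw [← sect_d_comm, hXi, hx, map_zero]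
    · funext i
      change ((p i).f n).val.app (op Y)
          ((φ.f n).val.app (op Y) X + (P.d (n - 1) n).val.app (op Y) B) =
        ((p i).f n).val.app (op Y) X'
      rw [map_add, sect_φ s p φ hφ, ← sect_d_comm, hXi, hXi, hBi, hb, map_neg]
      abel

end Groth.Agent.H45.DerCompl
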