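import Mathlib.CategoryTheory.Triangulated.Orthogonal
import Mathlib.CategoryTheory.Shift.Linear
import Mathlib.CategoryTheory.Linear.LinearFunctor
import Mathlib.CategoryTheory.Limits.Shapes.Products

/-!
# The derived limit of multiplication by a central element, in a linear triangulated category (helper45)

`T` pretriangulated and `R`-linear with linear shift functors, `s : R`, countable self-products exist.  For `K : T` let
`teleMap s K = 1 - s·shift` on `∏_ℕ K` and let `L ⟶ ∏ K ⟶ ∏ K ⟶ L[1]` be a distinguished triangle on it (`HolimTri`).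

* `bijective_comp_a_π`: if `s` is invertible on `M` then `Hom(M, L) ≅ Hom(M, K)` via the `0`-th projection;
* `isIso_smulId_L`: `s` is invertible on `L`;
* `eq_zero_of_mono_teleMap`: if `teleMap s Z` is a monomorphism and `s` is invertible on `M` then `Hom(M, Z) = 0`.
-/

set_option autoImplicit false
open CategoryTheory CategoryTheory.Limits CategoryTheory.Pretriangulated

namespace Groth.Agent.H45.DerCompl.TeleTri

variable {T : Type*} [Category T] [Preadditive T] [HasZeroObject T] [HasShift T ℤ]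
  [∀ n : ℤ, (shiftFunctor T n).Additive] [Pretriangulated T]
  {R : Type*} [Ring R] [Linear R T] [∀ n : ℤ, (shiftFunctor T n).Linear R] (s : R)

omit [HasZeroObject T] [HasShift T ℤ] [∀ n : ℤ, (shiftFunctor T n).Additive] [Pretriangulated T]
  [∀ n : ℤ, (shiftFunctor T n).Linear R] in
lemma smulId_comp {X Y : T} (f : X ⟶ Y) : (s • 𝟙 X) ≫ f = s • f := by
  rw [Linear.smul_comp, Category.id_comp]

omit [HasZeroObject T] [HasShift T ℤ] [∀ n : ℤ, (shiftFunctor T n).Additive] [Pretriangulated T]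
  [∀ n : ℤ, (shiftFunctor T n).Linear R] in
lemma comp_smulId {X Y : T} (f : X ⟶ Y) : f ≫ (s • 𝟙 Y) = s • f := by
  rw [Linear.comp_smul, Category.comp_id]

omit [HasZeroObject T] [Pretriangulated T] in
lemma map_smulId (M : T) (n : ℤ) : (s • 𝟙 M)⟦n⟧' = s • 𝟙 (M⟦n⟧) := by
  rw [CategoryTheory.Functor.map_smul, CategoryTheory.Functor.map_id]

omit [HasZeroObject T] [Pretriangulated T] in
lemma isIso_smulId_shift (M : T) (n : ℤ) [IsIso (s • 𝟙 M)] : IsIso (s • 𝟙 (M⟦n⟧)) := by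
  rw [← map_smulId]
  infer_instance

omit [HasZeroObject T] [HasShift T ℤ] [∀ n : ℤ, (shiftFunctor T n).Additive] [Pretriangulated T]
  [∀ n : ℤ, (shiftFunctor T n).Linear R] in
lemma isIso_smulId_of_iso {M M' : T} (e : M ≅ M') [IsIso (s • 𝟙 M)] : IsIso (s • 𝟙 M') := by
  have : s • 𝟙 M' = e.inv ≫ (s • 𝟙 M) ≫ e.hom := by
    rw [smulId_comp, Linear.comp_smul, e.inv_hom_id]
  rw [this]
  infer_instance

/-- the constant family. -/
abbrev cst (K : T) : ℕ → T := fun _ => K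

variable [∀ K : T, HasProduct (cst K)]

/-- `1 - s·shift` on the countable self-product. -/
noncomputable def teleMap (K : T) : ∏ᶜ (cst K) ⟶ ∏ᶜ (cst K) :=
  Pi.lift (fun n => Pi.π (cst K) n - Pi.π (cst K) (n + 1) ≫ (s • 𝟙 K))

omit [HasZeroObject T] [HasShift T ℤ] [∀ n : ℤ, (shiftFunctor T n).Additive] [Pretriangulated T]
  [∀ n : ℤ, (shiftFunctor T n).Linear R] in
@[reassoc]
lemma teleMap_π (K : T) (n : ℕ) :
    teleMap s K ≫ Pi.π (cst K) n = Pi.π (cst K) n - s • Pi.π (cst K) (n + 1) := by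
  rw [teleMap, Pi.lift_π, comp_smulId]

omit [HasZeroObject T] [HasShift T ℤ] [∀ n : ℤ, (shiftFunctor T n).Additive] [Pretriangulated T]
  [∀ n : ℤ, (shiftFunctor T n).Linear R] in
lemma comp_teleMap_π {M : T} (K : T) (x : M ⟶ ∏ᶜ (cst K)) (n : ℕ) :
    x ≫ teleMap s K ≫ Pi.π (cst K) n = x ≫ Pi.π (cst K) n - s • (x ≫ Pi.π (cst K) (n + 1)) := by
  rw [teleMap_π, Preadditive.comp_sub, Linear.comp_smul]

section invertible

variable {M : T} [IsIso (s • 𝟙 M)] (K : T)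

/-- the solution of `x_i - s x_{i+1} = y_i`, `x_0 = 0`. -/
noncomputable def solveSeq (y : ℕ → (M ⟶ K)) : ℕ → (M ⟶ K)
  | 0 => 0
  | (i + 1) => inv (s • 𝟙 M) ≫ (solveSeq y i - y i)

omit [HasZeroObject T] [HasShift T ℤ] [∀ n : ℤ, (shiftFunctor T n).Additive] [Pretriangulated T]
  [∀ n : ℤ, (shiftFunctor T n).Linear R] in
lemma exists_tele_eq (y : M ⟶ ∏ᶜ (cst K)) : ∃ x : M ⟶ ∏ᶜ (cst K), x ≫ teleMap s K = y := by
  refine ⟨Pi.lift (solveSeq s K (fun i => y ≫ Pi.π (cst K) i)), ?_⟩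
  apply Pi.hom_ext
  intro n
  rw [Category.assoc, comp_teleMap_π, Pi.lift_π, Pi.lift_π]
  change solveSeq s K (fun i => y ≫ Pi.π (cst K) i) n -
    s • (inv (s • 𝟙 M) ≫ (solveSeq s K (fun i => y ≫ Pi.π (cst K) i) n - y ≫ Pi.π (cst K) n)) = _
  rw [← smulId_comp, IsIso.hom_inv_id_assoc]
  abel

omit [HasZeroObject T] [HasShift T ℤ] [∀ n : ℤ, (shiftFunctor T n).Additive] [Pretriangulated T]
  [∀ n : ℤ, (shiftFunctor T n).Linear R] in
lemma eq_zero_of_tele_eq_zero (x : M ⟶ ∏ᶜ (cst K)) (h : x ≫ teleMap s K = 0)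
    (h0 : x ≫ Pi.π (cst K) 0 = 0) : x = 0 := by
  have hrec : ∀ n, x ≫ Pi.π (cst K) n = s • (x ≫ Pi.π (cst K) (n + 1)) := by
    intro n
    have h1 : x ≫ teleMap s K ≫ Pi.π (cst K) n = 0 := by
      rw [← Category.assoc, h, zero_comp]
    rw [comp_teleMap_π, sub_eq_zero] at h1
    exact h1
  have hall : ∀ n, x ≫ Pi.π (cst K) n = 0 := by
    intro n
    induction n with
    | zero => exact h0
    | succ n ih =>
      have h1 := hrec n
      rw [ih, ← smulId_comp] at h1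
      exact (cancel_epi (s • 𝟙 M)).1 (by rw [← h1, comp_zero])
  apply Pi.hom_ext
  intro n
  rw [hall n, zero_comp]

/-- the sequence `h, s⁻¹h, s⁻²h, …`. -/
noncomputable def invSeq (h : M ⟶ K) : ℕ → (M ⟶ K)
  | 0 => h
  | (i + 1) => inv (s • 𝟙 M) ≫ invSeq h i

omit [HasZeroObject T] [HasShift T ℤ] [∀ n : ℤ, (shiftFunctor T n).Additive] [Pretriangulated T]
  [∀ n : ℤ, (shiftFunctor T n).Linear R] in
lemma exists_ker (h : M ⟶ K) :
    ∃ x : M ⟶ ∏ᶜ (cst K), x ≫ teleMap s K = 0 ∧ x ≫ Pi.π (cst K) 0 = h := by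
  refine ⟨Pi.lift (invSeq s K h), ?_, ?_⟩
  · apply Pi.hom_ext
    intro n
    rw [Category.assoc, comp_teleMap_π, Pi.lift_π, Pi.lift_π, zero_comp]
    change invSeq s K h n - s • (inv (s • 𝟙 M) ≫ invSeq s K h n) = 0
    rw [← smulId_comp, IsIso.hom_inv_id_assoc, sub_self]
  · rw [Pi.lift_π]
    rfl

end invertible

/-- a distinguished triangle `L ⟶ ∏K ⟶ ∏K ⟶ L[1]` on `teleMap s K`. -/
structure HolimTri (K : T) where
  /-- the derived limit -/
  L : T
  /-- the map to the product -/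
  a : L ⟶ ∏ᶜ (cst K)
  /-- the connecting map -/
  c : ∏ᶜ (cst K) ⟶ L⟦(1 : ℤ)⟧
  /-- the triangle is distinguished -/
  dist : Triangle.mk a (teleMap s K) c ∈ distTriang T

lemma nonempty_holimTri (K : T) : Nonempty (HolimTri s K) := by
  obtain ⟨L, a, c, h⟩ := distinguished_cocone_triangle₁ (teleMap s K)
  exact ⟨⟨L, a, c, h⟩⟩

variable {s} {K : T} (H : HolimTri s K)

lemma HolimTri.a_tele : H.a ≫ teleMap s K = 0 := comp_distTriang_mor_zero₁₂ _ H.dist

lemma HolimTri.tele_c : teleMap s K ≫ H.c = 0 := comp_distTriang_mor_zero₂₃ _ H.dist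

/-- a map to `L` killed by `a` vanishes as soon as `tele` is surjective on maps from `M[1]`. -/
lemma HolimTri.eq_zero_of_comp_a {M : T}
    (hsurj : ∀ y : M⟦(1 : ℤ)⟧ ⟶ ∏ᶜ (cst K), ∃ x : M⟦(1 : ℤ)⟧ ⟶ ∏ᶜ (cst K), x ≫ teleMap s K = y)
    (f : M ⟶ H.L) (hf : f ≫ H.a = 0) : f = 0 := by
  have h1 : f⟦(1 : ℤ)⟧' ≫ H.a⟦(1 : ℤ)⟧' = 0 := by
    rw [← Functor.map_comp, hf, Functor.map_zero]
  obtain ⟨w, hw⟩ := Triangle.coyoneda_exact₁ _ H.dist (f⟦(1 : ℤ)⟧') h1
  obtain ⟨x, hx⟩ := hsurj w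
  have h2 : f⟦(1 : ℤ)⟧' = 0 := hw.trans (by
    rw [← hx]
    change (x ≫ teleMap s K) ≫ H.c = 0
    rw [Category.assoc, H.tele_c, comp_zero])
  exact (shiftFunctor T (1 : ℤ)).map_injective (by rw [h2, Functor.map_zero])

/-- **maps from an object on which `s` is invertible to the derived limit.** -/
theorem HolimTri.bijective_comp_a_π {M : T} [IsIso (s • 𝟙 M)] :
    Function.Bijective (fun f : M ⟶ H.L => f ≫ H.a ≫ Pi.π (cst K) 0) := by
  constructor
  · intro f f' hff'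
    have hg : (f - f') ≫ H.a ≫ Pi.π (cst K) 0 = 0 := by
      rw [Preadditive.sub_comp, sub_eq_zero]
      exact hff'
    have h1 : ((f - f') ≫ H.a) ≫ teleMap s K = 0 := by
      rw [Category.assoc, H.a_tele, comp_zero]
    have h2 : (f - f') ≫ H.a = 0 :=
      eq_zero_of_tele_eq_zero s K _ h1 (by rw [Category.assoc]; exact hg)
    haveI := isIso_smulId_shift s M (1 : ℤ)
    have h3 := H.eq_zero_of_comp_a (fun y => exists_tele_eq s K y) (f - f') h2
    exact sub_eq_zero.1 h3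
  · intro h
    obtain ⟨x, hx, hx0⟩ := exists_ker s K h
    obtain ⟨f, hf⟩ := Triangle.coyoneda_exact₂ _ H.dist x hx
    refine ⟨f, ?_⟩
    change f ≫ H.a ≫ Pi.π (cst K) 0 = h
    rw [← Category.assoc]
    change (f ≫ H.a) ≫ _ = _
    rw [← hx0, hf]
    rfl

end Groth.Agent.H45.DerCompl.TeleTri
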