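import Groth.Agent.H45.DerCompl.TeleTri

/-!
# Completion with respect to central elements in a linear triangulated category (helper45)

Continuation of `TeleTri`.  `s` is invertible on the derived limit `L` of multiplication by `s` on `K`; hence for a
shift-stable class `P` of objects on which `s` is invertible and such that `1 - s·shift` is a monomorphism on the
self-product of every object of `P^⊥`, the cone `K'` of `L ⟶ K` is the reflection of `K` in `P^⊥`
(`exists_completion`), and reflections for finitely many `(P_i, s_i)` compose (`exists_completion_fin`).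
-/

set_option autoImplicit false
open CategoryTheory CategoryTheory.Limits CategoryTheory.Pretriangulated

namespace Groth.Agent.H45.DerCompl.TeleTri

variable {T : Type*} [Category T] [Preadditive T] [HasZeroObject T] [HasShift T ℤ]
  [∀ n : ℤ, (shiftFunctor T n).Additive] [Pretriangulated T]
  {R : Type*} [Ring R] [Linear R T] [∀ n : ℤ, (shiftFunctor T n).Linear R] (s : R)
  [∀ K : T, HasProduct (cst K)]

/-- the shift map on the self-product. -/
noncomputable def sigmaMap (K : T) : ∏ᶜ (cst K) ⟶ ∏ᶜ (cst K) :=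
  Pi.lift (fun n => Pi.π (cst K) (n + 1))

omit [HasZeroObject T] [HasShift T ℤ] [∀ n : ℤ, (shiftFunctor T n).Additive] [Pretriangulated T]
  [∀ n : ℤ, (shiftFunctor T n).Linear R] in
lemma teleMap_eq (K : T) : teleMap s K = 𝟙 _ - s • sigmaMap K := by
  apply Pi.hom_ext
  intro n
  rw [teleMap_π, Preadditive.sub_comp, Category.id_comp, Linear.smul_comp, sigmaMap, Pi.lift_π]

omit [HasZeroObject T] [HasShift T ℤ] [∀ n : ℤ, (shiftFunctor T n).Additive] [Pretriangulated T]
  [∀ n : ℤ, (shiftFunctor T n).Linear R] in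
lemma sigma_tele (K : T) : sigmaMap K ≫ teleMap s K = teleMap s K ≫ sigmaMap K := by
  rw [teleMap_eq, Preadditive.comp_sub, Preadditive.sub_comp, Category.comp_id, Category.id_comp,
    Linear.comp_smul, Linear.smul_comp]

variable {s} {K : T} (H : HolimTri s K)

/-- **`s` is invertible on the derived limit of multiplication by `s`.** -/
theorem HolimTri.isIso_smulId_L : IsIso (s • 𝟙 H.L) := by
  have hτ : ∃ τ : H.L ⟶ H.L, H.a ≫ sigmaMap K = τ ≫ H.a ∧
      H.c ≫ τ⟦(1 : ℤ)⟧' = sigmaMap K ≫ H.c := by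
    obtain ⟨τ, h1, h2⟩ := complete_distinguished_triangle_morphism₁ _ _ H.dist H.dist
      (sigmaMap K) (sigmaMap K) (sigma_tele s K).symm
    exact ⟨τ, h1, h2⟩
  obtain ⟨τ, h1, h2⟩ := hτ
  let u : H.L ⟶ H.L := 𝟙 _ - s • τ
  have hu1 : u ≫ H.a = 0 := by
    have : u ≫ H.a = H.a ≫ teleMap s K := by
      rw [teleMap_eq, Preadditive.comp_sub, Category.comp_id, Linear.comp_smul, h1]
      simp only [u, Preadditive.sub_comp, Category.id_comp, Linear.smul_comp]
    rw [this, H.a_tele]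
  have hu2 : H.c ≫ u⟦(1 : ℤ)⟧' = 0 := by
    have : H.c ≫ u⟦(1 : ℤ)⟧' = teleMap s K ≫ H.c := by
      rw [teleMap_eq, Preadditive.sub_comp, Category.id_comp, Linear.smul_comp, ← h2]
      simp only [u, Functor.map_sub, CategoryTheory.Functor.map_id, CategoryTheory.Functor.map_smul,
        Preadditive.comp_sub, Category.comp_id, Linear.comp_smul]
    rw [this, H.tele_c]
  have huu : u ≫ u = 0 := by
    have h3 : u⟦(1 : ℤ)⟧' ≫ H.a⟦(1 : ℤ)⟧' = 0 := by
      rw [← Functor.map_comp, hu1, Functor.map_zero]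
    have hg' : ∃ g : (H.L)⟦(1 : ℤ)⟧ ⟶ ∏ᶜ (cst K), u⟦(1 : ℤ)⟧' = g ≫ H.c :=
      Triangle.coyoneda_exact₁ _ H.dist (u⟦(1 : ℤ)⟧') h3
    obtain ⟨g, hg⟩ := hg'
    have h4 : (u ≫ u)⟦(1 : ℤ)⟧' = 0 := by
      rw [Functor.map_comp]
      nth_rw 1 [hg]
      rw [Category.assoc, hu2, comp_zero]
    exact (shiftFunctor T (1 : ℤ)).map_injective (by rw [h4, Functor.map_zero])
  have hst : s • τ = 𝟙 _ - u := by
    simp only [u]
    abel
  have hkey : (s • τ) ≫ (𝟙 _ + u) = 𝟙 _ := by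
    rw [hst, Preadditive.sub_comp, Category.id_comp, Preadditive.comp_add, Category.comp_id, huu,
      add_zero, add_sub_cancel_right]
  refine ⟨⟨τ ≫ (𝟙 _ + u), ?_, ?_⟩⟩
  · rw [smulId_comp, ← Linear.smul_comp]
    exact hkey
  · rw [comp_smulId, ← Linear.smul_comp]
    exact hkey

variable (s)

omit [HasZeroObject T] [HasShift T ℤ] [∀ n : ℤ, (shiftFunctor T n).Additive] [Pretriangulated T]
  [∀ n : ℤ, (shiftFunctor T n).Linear R] in
/-- if `1 - s·shift` is a monomorphism on `∏ Z` and `s` is invertible on `M` then `Hom(M, Z) = 0`. -/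
lemma eq_zero_of_mono_teleMap {M Z : T} [IsIso (s • 𝟙 M)] [Mono (teleMap s Z)] (f : M ⟶ Z) :
    f = 0 := by
  obtain ⟨x, hx, hx0⟩ := exists_ker s Z f
  have h : x = 0 := (cancel_mono (teleMap s Z)).1 (by rw [hx, zero_comp])
  rw [← hx0, h, zero_comp]

omit [HasZeroObject T] [Pretriangulated T] [Linear R T] [∀ n : ℤ, (shiftFunctor T n).Linear R]
  [∀ K : T, HasProduct (cst K)] in
/-- detecting zero maps into a shift by `1` through maps from the shift by `-1`. -/
lemma eq_zero_of_shift_neg {X Y Y' : T} (φ : Y ⟶ Y')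
    (hφ : ∀ g₀ : X⟦(-1 : ℤ)⟧ ⟶ Y, g₀ ≫ φ = 0 → g₀ = 0)
    (g : X ⟶ Y⟦(1 : ℤ)⟧) (hg : g ≫ φ⟦(1 : ℤ)⟧' = 0) : g = 0 := by
  let adj := (shiftEquiv T (1 : ℤ)).symm.toAdjunction
  obtain ⟨g₀, hg₀⟩ := (adj.homEquiv X Y).surjective g
  have h1 : g₀ ≫ φ = 0 := by
    apply (adj.homEquiv X Y').injective
    rw [adj.homEquiv_naturality_right, hg₀]
    refine hg.trans ?_
    rw [Adjunction.homEquiv_unit, Functor.map_zero, comp_zero]
    rfl
  have h2 : g₀ = 0 := hφ g₀ h1
  rw [← hg₀, h2, Adjunction.homEquiv_unit, Functor.map_zero, comp_zero]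
  rfl

section completion

variable (P : ObjectProperty T) [P.IsStableUnderShift ℤ]
  (hP : ∀ X, P X → IsIso (s • 𝟙 X))
  (hZ : ∀ Z, P.rightOrthogonal Z → Mono (teleMap s Z))

include hP hZ in
/-- **the reflection into `P^⊥`.** -/
theorem exists_completion (K : T) : ∃ (K' : T) (b : K ⟶ K'), P.rightOrthogonal K' ∧
    (∀ Z, P.rightOrthogonal Z → Function.Bijective (fun h : K' ⟶ Z => b ≫ h)) ∧
    (∀ (Q : ObjectProperty T), Q.IsStableUnderShift ℤ → Q.rightOrthogonal K →
      Q.rightOrthogonal K') := by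
  obtain ⟨H⟩ := nonempty_holimTri s K
  let φ : H.L ⟶ K := H.a ≫ Pi.π (cst K) 0
  obtain ⟨K', b, δ, hT⟩ := distinguished_cocone_triangle φ
  have hφb : φ ≫ b = 0 := comp_distTriang_mor_zero₁₂ _ hT
  have hbδ : b ≫ δ = 0 := comp_distTriang_mor_zero₂₃ _ hT
  have hδφ : δ ≫ φ⟦(1 : ℤ)⟧' = 0 := comp_distTriang_mor_zero₃₁ _ hT
  refine ⟨K', b, ?_, ?_, ?_⟩
  · intro X f hX
    haveI := hP X hX
    haveI : IsIso (s • 𝟙 (X⟦(-1 : ℤ)⟧)) := hP _ (P.le_shift (-1 : ℤ) X hX)
    have h3 : f ≫ δ = 0 := by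
      refine eq_zero_of_shift_neg φ (fun g₀ hg₀ => ?_) (f ≫ δ) (by rw [Category.assoc, hδφ, comp_zero])
      exact H.bijective_comp_a_π.1 (by
        change g₀ ≫ φ = 0 ≫ φ
        rw [hg₀, zero_comp])
    obtain ⟨f', hf'⟩ : ∃ f' : X ⟶ K, f = f' ≫ b := Triangle.coyoneda_exact₃ _ hT f h3
    obtain ⟨f'', hf''⟩ := H.bijective_comp_a_π.2 f'
    replace hf'' : f'' ≫ φ = f' := hf''
    rw [hf', ← hf'', Category.assoc, hφb, comp_zero]
  · intro Z hZ'
    haveI := hZ Z hZ'
    haveI := H.isIso_smulId_L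
    haveI := isIso_smulId_shift s H.L (1 : ℤ)
    constructor
    · intro h h' hh
      have h1 : b ≫ (h - h') = 0 := by
        rw [Preadditive.comp_sub, sub_eq_zero]
        exact hh
      obtain ⟨k, hk⟩ : ∃ k : (H.L)⟦(1 : ℤ)⟧ ⟶ Z, h - h' = δ ≫ k :=
        Triangle.yoneda_exact₃ _ hT (h - h') h1
      have hk0 : k = 0 := eq_zero_of_mono_teleMap s k
      rw [hk0, comp_zero] at hk
      exact sub_eq_zero.1 hk
    · intro k
      have h1 : φ ≫ k = 0 := eq_zero_of_mono_teleMap s _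
      obtain ⟨k', hk'⟩ : ∃ k' : K' ⟶ Z, k = b ≫ k' := Triangle.yoneda_exact₂ _ hT k h1
      exact ⟨k', hk'.symm⟩
  · intro Q hQ hK
    have hprod : Q.rightOrthogonal (∏ᶜ (cst K)) := by
      intro X f hX
      apply Pi.hom_ext
      intro n
      rw [zero_comp]
      exact hK _ hX
    have hL : Q.rightOrthogonal H.L :=
      Q.rightOrthogonal.ext_of_isTriangulatedClosed₁ _ H.dist hprod hprod
    exact Q.rightOrthogonal.ext_of_isTriangulatedClosed₃ _ hT hL hK

end completion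

/-- **reflections for finitely many central elements compose.** -/
theorem exists_completion_fin (r : ℕ) : ∀ (P : Fin r → ObjectProperty T)
    (_ : ∀ i, (P i).IsStableUnderShift ℤ) (s : Fin r → R)
    (_ : ∀ i X, P i X → IsIso (s i • 𝟙 X))
    (_ : ∀ i Z, (P i).rightOrthogonal Z → Mono (teleMap (s i) Z)) (K : T),
    ∃ (K' : T) (b : K ⟶ K'), (∀ i, (P i).rightOrthogonal K') ∧
      (∀ Z, (∀ i, (P i).rightOrthogonal Z) → Function.Bijective (fun h : K' ⟶ Z => b ≫ h)) ∧
      (∀ (Q : ObjectProperty T), Q.IsStableUnderShift ℤ → Q.rightOrthogonal K →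
        Q.rightOrthogonal K') := by
  induction r with
  | zero =>
    intro P _ s _ _ K
    refine ⟨K, 𝟙 K, fun i => i.elim0, fun Z _ => ?_, fun Q _ h => h⟩
    simp only [Category.id_comp]
    exact Function.bijective_id
  | succ r ih =>
    intro P hS s hP hZ K
    obtain ⟨K₁, b₁, h₁, u₁, q₁⟩ := ih (fun i => P i.castSucc) (fun i => hS i.castSucc)
      (fun i => s i.castSucc) (fun i => hP i.castSucc) (fun i => hZ i.castSucc) K
    haveI := hS (Fin.last r)
    obtain ⟨K₂, b₂, h₂, u₂, q₂⟩ := exists_completion (s (Fin.last r)) (P (Fin.last r))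
      (hP (Fin.last r)) (hZ (Fin.last r)) K₁
    refine ⟨K₂, b₁ ≫ b₂, ?_, ?_, fun Q hQ h => q₂ Q hQ (q₁ Q hQ h)⟩
    · intro i
      refine Fin.lastCases h₂ (fun i => ?_) i
      exact q₂ (P i.castSucc) (hS i.castSucc) (h₁ i)
    · intro Z hZall
      have e : (fun h : K₂ ⟶ Z => (b₁ ≫ b₂) ≫ h) =
          (fun h : K₁ ⟶ Z => b₁ ≫ h) ∘ (fun h : K₂ ⟶ Z => b₂ ≫ h) := by
        funext h
        simp only [Function.comp, Category.assoc]
      rw [e]
      exact (u₁ Z (fun i => hZall i.castSucc)).comp (u₂ Z (hZall (Fin.last r)))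

end Groth.Agent.H45.DerCompl.TeleTri
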