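import Groth.Agent.H45.DerCompl.PushCompl
import Groth.Agent.H45.DerCompl.GlobalLocality
import Groth.Agent.H31.ExtZeroS
import Groth.Agent.H33.KInjAdj

/-!
# The vanishing condition of derived completeness through a K-injective model; locality (helper45)

* `vanishing_iff_tele`: for `K ≅ Q I` with `I` K-injective, all maps `j_{V!}O_{V,g}[0] ⟶ K⟦n⟧` vanish iff the complex of
  sections `I(V)` satisfies `TeleInj` and `TeleSurj` for `g` in every degree.
* `vanishing_of_cover`: the vanishing condition at `(W, a)` follows from the vanishing conditions at `(W', a|_{W'})` for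
  the arrows `W' ⟶ W` of a covering sieve.
-/

set_option autoImplicit false
universe w u
open CategoryTheory CategoryTheory.Limits Opposite DerivedCategory

namespace Groth.Agent.H45.DerCompl

open Groth.Agent.H45.PushLocal Groth.Agent.H45.RlimModW

variable {C : Type u} [SmallCategory C] {J : GrothendieckTopology C} {O : Sheaf J CommRingCat.{u}}

section

variable [HasDerivedCategory.{w} (ModSite.Mod O)]

theorem vanishing_iff_tele (K : DerivedCategory (ModSite.Mod O))
    (I : CochainComplex (ModSite.Mod O) ℤ) [I.IsKInjective] (e : K ≅ Q.obj I) (V : C)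
    (g : O.obj.obj (op V)) :
    (∀ n : ℤ, Subsingleton ((DerivedCategory.singleFunctor (ModSite.Mod O) 0).obj
        ((ModSite.extZero O V).obj (DerComp.awayOver O V g)) ⟶ K⟦n⟧)) ↔
      ∀ n : ℤ, TeleInj I V g n ∧ TeleSurj I V g n := by
  rw [derComp_criterion]
  refine forall_congr' (fun n => ?_)
  rw [bijective_teleOp_congr V g e n, bijective_teleOp_iff _ (isPLocal_of_isKInjective I)]

theorem exists_kInj_model (K : DerivedCategory (ModSite.Mod O)) :
    ∃ (I : CochainComplex (ModSite.Mod O) ℤ) (_ : I.IsKInjective), Nonempty (K ≅ Q.obj I) := by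
  obtain ⟨I, g, hI, hg, -, -⟩ := Groth.Agent.H33.KInj.exists_kInjective_resolution
    ((Q : _ ⥤ DerivedCategory (ModSite.Mod O)).objPreimage K)
  have : IsIso ((Q : _ ⥤ DerivedCategory (ModSite.Mod O)).map g) :=
    (DerivedCategory.isIso_Q_map_iff_quasiIso (C := ModSite.Mod O) g).2 hg
  exact ⟨I, hI, ⟨(Q.objObjPreimageIso K).symm ≪≫ asIso (Q.map g)⟩⟩

end

section restr

variable (W : C) (a : O.obj.obj (op W))

/-- restriction to `C/W` of a K-injective complex is K-injective. -/
lemma isKInjective_restrCx (I : CochainComplex (ModSite.Mod O) ℤ) [I.IsKInjective] :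
    CochainComplex.IsKInjective
      (((ModSite.restr O W).mapHomologicalComplex (ComplexShape.up ℤ)).obj I) := by
  have h1 : PreservesFiniteLimits (ModSite.extZero O W) :=
    Groth.Agent.H31.ExtZero.preservesFiniteLimits_extZero W O
  have h2 : PreservesFiniteColimits (ModSite.extZero O W) := by
    have : PreservesColimitsOfSize.{0, 0} (ModSite.extZero O W) :=
      (ModSite.extZeroAdj O W).leftAdjoint_preservesColimits
    exact PreservesColimitsOfSize.preservesFiniteColimits _
  exact Groth.Agent.H33.KInjAdj.isKInjective_map (ModSite.extZeroAdj O W) I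

lemma teleInj_restr_iff (I : CochainComplex (ModSite.Mod O) ℤ) (Y : Over W) (n : ℤ) :
    TeleInj (((ModSite.restr O W).mapHomologicalComplex (ComplexShape.up ℤ)).obj I) Y
        ((DerComp.GSec.ofSect O W a).1 Y) n ↔
      TeleInj I Y.left ((O.obj.map Y.hom.op).hom a) n :=
  Iff.rfl

lemma teleSurj_restr_iff (I : CochainComplex (ModSite.Mod O) ℤ) (Y : Over W) (n : ℤ) :
    TeleSurj (((ModSite.restr O W).mapHomologicalComplex (ComplexShape.up ℤ)).obj I) Y
        ((DerComp.GSec.ofSect O W a).1 Y) n ↔
      TeleSurj I Y.left ((O.obj.map Y.hom.op).hom a) n :=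
  Iff.rfl

end restr

end Groth.Agent.H45.DerCompl
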